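import Cfsg.Agent.Cam.Q2.Small
import Cfsg.Agent.Cam.E8K.H
import Cfsg.Agent.Cam.Ex.Grp5
import Cfsg.Agent.H64.ChevField

/-!
# `E₈(2)`: the assembly (helper69)
-/

set_option autoImplicit false
set_option linter.unusedVariables false

namespace Cfsg.Agent.Cam.Q2.Asm

open Cfsg Cfsg.Lie Subgroup
open Cfsg.Agent.Cam.Spor
open Cfsg.Agent.H939.L64 (E2)
open Cfsg.Agent.E82 (cf)

/-- the case `A₆` -/
def EndA6 : Prop := ∀ (U : Type) [Group U] [Finite U] (τ α β : U →* E2) (R R' : Subgroup E2), Core τ α β R R' →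
  (∀ u, orderOf u = 5 → cf (τ u) = 48) → Nonempty (U ≃* A6) → False

theorem noCore_E2 (big : Big) (lat : BoxLat) (s7a : BoxS7a) (s7b : BoxS7b) (s7c : BoxS7c) (fr : BoxFr) (five : BoxFive)
    (inn : BoxInn) (h6 : EndA6) : NoCore E2 := by
  intro U _ _ τ α β R R' c
  have : Finite E2 := E82.finite_E2
  obtain ⟨E, he, -⟩ := fr
  have h5 : ∀ r : ℕ, r.Prime → r ∣ Nat.card U → r ≤ 5 := by
    intro r hr hd
    by_contra h
    have h7 : 7 ≤ r := by
      have h1 : r ≠ 6 := fun e => absurd (e ▸ hr) (by decide)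
      omega
    obtain ⟨u, v, hu, h1 | h1⟩ := s7a big lat E2 E he U τ α β R R' c r hr h7 hd
    · exact s7b big lat E2 E he U τ α β R R' c u v hu h1
    · exact s7c big lat E2 E he U τ α β R R' c u v hu h1
  have h1 := five big U τ α β R R' c
  have h2 := Sm.c2_of inn c h1
  have := c.simple
  rcases Ex.Grp5.list5 big c.noncomm h5 with h | h | ⟨F, _, _, hF, ⟨e⟩⟩
  · exact Sm.noA5 h2 h
  · exact h6 U τ α β R R' c h1 h
  · exact Sm.noU42 h2 hF e

theorem boxQ_of (h : NoCore E2) : E8.BoxQ 2 := by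
  intro F _ _ hF U _ _ τ α β R R' c _
  have := Fintype.ofFinite F
  have : Finite (E8A.G8 F) := E8A.finite8
  have σ : F ≃+* ZMod 2 := FiniteField.ringEquivOfCardEq (by rw [← Nat.card_eq_fintype_card, hF, ZMod.card])
  exact h.of_equiv (H64.ChevField.groupCongr σ chevE8) U τ α β R R' c

theorem boxTwo_of (h : NoCore E2) : E8.BoxTwo := E8K.boxTwo_of (boxQ_of h)

end Cfsg.Agent.Cam.Q2.Asm
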