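import Cfsg.Agent.Cam.Q2.Iface
import Cfsg.Agent.Cam.Ex.Asm

/-!
# S3690, the group `E₈(2)`: the end of the case `A₆` (helper65)

* `c2_of` : the two commuting embeddings of a core;
* `stab_le` : the stabiliser of the fixed space of `α U R'` normalises `α U R'`;
* `noA6` : no core with `U ≅ A₆`.
-/

set_option autoImplicit false
set_option linter.unusedVariables false
set_option linter.unusedSectionVars false
set_option maxRecDepth 100000
set_option maxHeartbeats 400000

namespace Cfsg.Agent.Cam.Q2.EndA6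

open Cfsg Cfsg.Lie Subgroup
open Cfsg.Agent.Cam.Spor Cfsg.Agent.Cam.Ex
open Cfsg.Agent.H939.L64 (KK E2 LK em rE rE_mul rE_one rE_inj rE_inv_self rE_self_inv)
open Cfsg.Agent.E82 (cf stabS mem_stabS stabV mem_stabV fd_conj fd_one)
open Cfsg.Agent.E82.F5 (c2 x5 x5_pow)
open Cfsg.Agent.E82.Fr (Quad)

section grp

variable {G : Type} [Group G] [Finite G]

/-- counting the conjugates of an element -/
theorem card_le_mul (T : Subgroup G) (a : G) (S : Subgroup G) (h : ∀ g ∈ T, g * a * g⁻¹ ∈ S) :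
    Nat.card T ≤ Nat.card S * Nat.card (T ⊓ centralizer ({a} : Set G) : Subgroup G) := by
  have h1 := ((centralizer ({a} : Set G)).subgroupOf T).index_mul_card
  have h2 : Nat.card ((centralizer ({a} : Set G)).subgroupOf T) =
      Nat.card (T ⊓ centralizer ({a} : Set G) : Subgroup G) := by
    rw [← inf_subgroupOf_left]
    exact Nat.card_congr (subgroupOfEquivOfLe inf_le_left).toEquiv
  rw [← h1, h2]
  refine Nat.mul_le_mul_right _ (Nat.card_le_card_of_injective
    (fun q : T ⧸ (centralizer ({a} : Set G)).subgroupOf T => (⟨(q.out : T) * a * ((q.out : T) : G)⁻¹, h _ q.out.2⟩ : S))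
    fun q q' hq => ?_)
  have h3 : ((q.out : T) : G) * a * ((q.out : T) : G)⁻¹ = (q'.out : T) * a * ((q'.out : T) : G)⁻¹ := congrArg Subtype.val hq
  rw [← q.out_eq, ← q'.out_eq]
  refine QuotientGroup.eq.2 (mem_subgroupOf.2 (mem_centralizer_singleton_iff.2 ?_))
  rw [coe_mul, coe_inv]
  generalize ((q.out : T) : G) = x at h3 ⊢
  generalize ((q'.out : T) : G) = y at h3 ⊢
  calc x⁻¹ * y * a = x⁻¹ * (y * a * y⁻¹) * y := by group
    _ = a * (x⁻¹ * y) := by rw [← h3]; group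

/-- an element which normalises `α U R` and centralises a non-trivial element of `α U` normalises `α U` -/
theorem norm_comp {U : Type} [Group U] (hs : IsSimpleGroup U) {α : U →* G} {R : Subgroup G} (p : Pair α R) {g : G}
    (hg : g ∈ normalizer ((α.range ⊔ R : Subgroup G) : Set G)) {h : U} (h1 : α h ≠ 1) (hc : g * α h = α h * g) (u : U) :
    g * α u * g⁻¹ ∈ α.range := by
  have hn : α.range ⊔ R ≤ normalizer (α.range : Set G) := by
    refine sup_le le_normalizer (le_trans (fun r hr => mem_centralizer_iff.2 ?_) (centralizer_le_normalizer _))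
    rintro _ ⟨v, rfl⟩
    exact p.comm v r hr
  let N : Subgroup G := α.range.comap (MulAut.conj g).toMonoidHom ⊓ α.range
  have hN : ∀ y, y ∈ N ↔ g * y * g⁻¹ ∈ α.range ∧ y ∈ α.range := fun y => Iff.rfl
  have h2 : ∀ t ∈ α.range, ∀ n ∈ N, t * n * t⁻¹ ∈ N := by
    intro t ht n hn'
    refine (hN _).2 ⟨?_, mul_mem (mul_mem ht hn'.2) (inv_mem ht)⟩
    have h3 := conj_mem_of_norm (hn (conj_mem_of_norm hg (mem_sup_left ht))) ((hN n).1 hn').1
    have e : g * (t * n * t⁻¹) * g⁻¹ = g * t * g⁻¹ * (g * n * g⁻¹) * (g * t * g⁻¹)⁻¹ := by group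
    rwa [e]
  rcases eq_bot_or_eq (range_simple hs p.inj) inf_le_right h2 with h3 | h3
  · have h4 : α h ∈ N := (hN _).2 ⟨by rw [hc, mul_inv_cancel_right]; exact ⟨h, rfl⟩, ⟨h, rfl⟩⟩
    exact absurd (mem_bot.1 (h3 ▸ h4)) h1
  · have h4 : α u ∈ N := by
      show α u ∈ α.range.comap (MulAut.conj g).toMonoidHom ⊓ α.range
      rw [h3]
      exact ⟨u, rfl⟩
    exact ((hN _).1 h4).1

end grp

variable {U : Type} [Group U] [Finite U] {τ α β : U →* E2} {R R' : Subgroup E2}

/-- the two commuting embeddings -/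
theorem c2_of (inn : BoxInn) (c : Core τ α β R R') (five : ∀ u, orderOf u = 5 → cf (τ u) = 48) : C2 α β := by
  obtain ⟨θ, ψ, hψ, hθ⟩ := exists_cmp c
  obtain ⟨g, hg⟩ := inn θ
  have h1 : ∀ u, cf (α u) = cf (τ (ψ u)) := fun u => by rw [← hθ, hg, fd_conj]
  refine ⟨c.pair'.inj, c.binj, c.ab, ⟨MulEquiv.ofBijective ψ (Finite.injective_iff_bijective.1 hψ), fun u => ?_⟩,
    fun u hu => ?_⟩
  · rw [h1, c.eq]
    rfl
  · rw [h1]
    exact five _ (by rw [orderOf_injective ψ hψ, hu])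

theorem C2.comp {V : Type} [Group V] (h : C2 α β) (e : V ≃* U) : C2 (α.comp e.toMonoidHom) (β.comp e.toMonoidHom) := by
  obtain ⟨ψ, hψ⟩ := h.cmp
  refine ⟨h.ainj.comp e.injective, h.binj.comp e.injective, fun u v => h.ab _ _, ⟨(e.trans ψ).trans e.symm, fun u => ?_⟩,
    fun u hu => h.five _ (by rw [← hu]; exact orderOf_injective e.toMonoidHom e.injective u)⟩
  show cf (α (e u)) = cf (α (e (e.symm (ψ (e u)))) * β (e (e.symm (ψ (e u)))))
  rw [e.apply_symm_apply, hψ]

/-- the fixed space of a subgroup -/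
def fixG (Γ : Subgroup E2) : Submodule KK LK where
  carrier := {v | ∀ g ∈ Γ, rE g v = v}
  add_mem' := fun {a b} ha hb g hg => by rw [map_add, ha g hg, hb g hg]
  zero_mem' := fun g _ => map_zero _
  smul_mem' := fun a v hv g hg => by rw [map_smul, hv g hg]

theorem norm_le_stab (Γ : Subgroup E2) : normalizer (Γ : Set E2) ≤ stabS (fixG Γ) := fun g hg v hv x hx => by
  have h1 := hv _ (conj_mem_of_norm (inv_mem hg) hx)
  have e : x * g = g * (g⁻¹ * x * g⁻¹⁻¹) := by group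
  rw [← rE_mul, e, rE_mul, h1]

/-- **the stabiliser of the fixed space** -/
theorem stab_le (inn : BoxInn) (c : Core τ α β R R') {s : LK} (hs : s ≠ 0) (h1 : ∀ u, rE (α u) s = s)
    (h2 : ∀ r ∈ R', rE r s = s) :
    stabS (fixG (α.range ⊔ R')) ≤ normalizer ((α.range ⊔ R' : Subgroup E2) : Set E2) := by
  have hfin : Finite E2 := inferInstance
  obtain ⟨θ₀, h0⟩ := c.hconj
  have h3 := (c.map θ₀).max (stabS (fixG (α.range ⊔ R')))
  rw [range_comp_equiv, ← Subgroup.map_sup, ← h0] at h3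
  refine h3 (fun h4 => ?_) fun θ hθ => ?_
  · rcases Cfsg.Agent.H955.L64.IRR (fixG (α.range ⊔ R')) (fun g v hv => (h4 ▸ mem_top g : g ∈ stabS _) v hv) with h5 | h5
    · have h6 : α.range ⊔ R' ≤ stabV s := sup_le (by rintro _ ⟨u, rfl⟩; exact h1 u) h2
      have h7 : s ∈ fixG (α.range ⊔ R') := fun g hg => h6 hg
      rw [h5] at h7
      exact hs h7
    · have := c.simple
      obtain ⟨u, hu⟩ := exists_ne (1 : U)
      refine hu (c.pair'.inj ?_)
      rw [map_one]
      exact rE_inj fun v => (h5 ▸ Submodule.mem_top : v ∈ fixG (α.range ⊔ R')) _ (mem_sup_left ⟨u, rfl⟩)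
  · obtain ⟨g, hg⟩ := inn θ
    have h4 : g ∈ stabS (fixG (α.range ⊔ R')) := norm_le_stab _ (mem_normalizer_of fun y hy => by
      rw [← hg, ← hθ]
      exact ⟨y, hy, rfl⟩)
    ext y
    constructor
    · rintro ⟨x, hx, rfl⟩
      rw [MulEquiv.coe_toMonoidHom, hg]
      exact mul_mem (mul_mem h4 hx) (inv_mem h4)
    · intro hy
      refine ⟨g⁻¹ * y * g, mul_mem (mul_mem (inv_mem h4) hy) h4, ?_⟩
      rw [MulEquiv.coe_toMonoidHom, hg]
      group

theorem fin_grp {G : Type} [Group G] [Finite G] (T : Subgroup G) (a : G) (S : Subgroup G) (h : ∀ g ∈ T, g * a * g⁻¹ ∈ S)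
    (h1 : Nat.card T = 3 ^ 8) (h2 : Nat.card S = 360) (t2 : ∀ g ∈ T, g ^ 3 = 1) (t3 : ∀ g ∈ T, ∀ h ∈ T, g * h = h * g)
    (h3 : ∀ P : Subgroup G, (∀ g ∈ P, g ^ 3 = 1) → (∀ g ∈ P, ∀ h ∈ P, g * h = h * g) → (∀ g ∈ P, g * a = a * g) →
      Nat.card P ≤ 9) : False := by
  have h7 := card_le_mul T a S h
  have h9 := h3 (T ⊓ centralizer {a}) (fun g hg => t2 g hg.1) (fun g hg k hk => t3 g hg.1 k hk.1)
    fun g hg => mem_centralizer_singleton_iff.1 hg.2
  rw [h1, h2] at h7
  omega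

theorem card_range {G : Type} [Group G] {f : U →* G} (hf : Function.Injective f) (e : U ≃* A6) : Nat.card f.range = 360 := by
  rw [← Nat.card_congr (MonoidHom.ofInjective hf).toEquiv, Nat.card_congr e.toEquiv]
  have h11 : 2 * Nat.card A6 = Nat.card (Equiv.Perm (Fin 6)) := by
    convert two_mul_nat_card_alternatingGroup (α := Fin 6)
  rw [Nat.card_perm, Nat.card_fin] at h11
  have h12 : Nat.factorial 6 = 720 := rfl
  omega

theorem endE (inn : BoxInn) (n33 : BoxN33) (t38 : BoxT38) (c : Core τ α β R R') (h10 : Nat.card α.range = 360) {s : LK}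
    (hs : s ≠ 0) (h2 : ∀ u, rE (α u) s = s) (h3 : ∀ r ∈ R', rE r s = s) {x h : U} (h5 : orderOf x = 5) (h48 : cf (α x) = 48)
    {y : Fin 4 → E2} (hq : Quad y 92 80) (y0 : y 0 = α h) (hy : ∀ i, y i ∈ α.range ⊔ R') : False := by
  have hfin : Finite E2 := Cfsg.Agent.E82.finite_E2
  obtain ⟨T, t1, t2, t3, t4, t5⟩ := t38 y hq
  have h4 : T ≤ normalizer ((α.range ⊔ R' : Subgroup E2) : Set E2) := fun g hg =>
    stab_le inn c hs h2 h3 (mem_stabS.2 fun v hv => by
      rw [t5 v (fun i => hv _ (hy i)) g hg]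
      exact hv)
  have h6 : α h ≠ 1 := fun h7 => by
    have h9 := hq.one 0
    rw [y0, h7, fd_one] at h9
    exact absurd h9 (by norm_num)
  have h7 : α x ^ 5 = 1 := by rw [← map_pow, ← h5, pow_orderOf_eq_one, map_one]
  exact fin_grp T (α x) α.range (fun g hg => norm_comp c.simple c.pair' (h4 hg) h6 (by rw [← y0]; exact t4 g hg 0) x)
    t1 h10 t2 t3 fun P => n33 (α x) P h7 h48

theorem ord5 (f : E82.F5.A5 →* U) (h : f x5 ≠ 1) : orderOf (f x5) = 5 := by
  have : Fact (Nat.Prime 5) := ⟨Nat.prime_five⟩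
  exact orderOf_eq_prime (by rw [← map_pow, x5_pow, map_one]) h

theorem four {G : Type} {P : G → Prop} {a b c d : G} (ha : P a) (hb : P b) (hc : P c) (hd : P d) (i : Fin 4) :
    P (![a, b, c, d] i) := by
  fin_cases i
  exacts [ha, hb, hc, hd]

theorem first {G : Type} (a b c d : G) : ![a, b, c, d] 0 = a := rfl

/-- **no core with `U ≅ A₆`** -/
theorem noA6 (inn : BoxInn) (n33 : BoxN33) (t38 : BoxT38) (num : BoxNum) (vec : BoxVec) (c : Core τ α β R R')
    (five : ∀ u, orderOf u = 5 → cf (τ u) = 48) (e : Nonempty (U ≃* A6)) : False := by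
  obtain ⟨e⟩ := e
  have h1 := c2_of inn c five
  obtain ⟨⟨φ, hφ, h8⟩, h, h', hq⟩ := num _ _ (C2.comp h1 e.symm)
  obtain ⟨f, hf⟩ : ∃ f : A6 →* U, f = e.symm.toMonoidHom := ⟨_, rfl⟩
  rw [← hf] at h8 hq
  have hi : Function.Injective f := by rw [hf]; exact e.symm.injective
  have h5 : orderOf ((f.comp φ) x5) = 5 := ord5 _ fun h2 => hφ (hi (by rw [map_one]; exact h2))
  have h48 := h1.five _ h5
  rw [MonoidHom.comp_apply, MonoidHom.comp_apply] at h8
  obtain ⟨s, hs, h2, h3⟩ := vec U α β R' (f.comp φ) c.pair'.comm c.bmem h48 (by rw [MonoidHom.comp_apply]; exact h8)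
  exact endE inn n33 t38 c (card_range c.pair'.inj e) hs h2 h3 h5 h48 hq (h := f h) (first _ _ _ _)
    (four (P := fun g => g ∈ α.range ⊔ R') (mem_sup_left ⟨_, rfl⟩) (mem_sup_left ⟨_, rfl⟩) (mem_sup_right (c.bmem _))
      (mem_sup_right (c.bmem _)))

end Cfsg.Agent.Cam.Q2.EndA6
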