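import Cfsg.Agent.Cam.Q2.Iface
import Cfsg.Agent.Cam.Ex.Frame
import Cfsg.Agent.Cam.Ex.ConnTor
import Cfsg.Agent.Cam.Ex.PBox
import Cfsg.Agent.Cam.E8K.B
import Cfsg.Agent.E82.F5.Frame

/-!
# S3690, the group `E₈(2)`: the frame, the elements of order five, the automorphisms (helper42)

`boxFr : BoxFr`, `boxFive : BoxFive`, `boxInn : BoxInn`.
-/

set_option autoImplicit false
set_option linter.unusedVariables false
set_option maxRecDepth 100000

namespace Cfsg.Agent.Cam.Q2.Fr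

open CoxeterSystem Cfsg Cfsg.Lie Subgroup
open Cfsg.Agent.ChevalleyStructure Cfsg.Agent.ChevalleyStructure.Elts Cfsg.Agent.ChevalleyStructure.CoxeterGeom
  Cfsg.Agent.ChevalleyStructure.CoxeterGeomTypes
open Cfsg.Agent.Tits.Roots Cfsg.Agent.Nodes Cfsg.Agent.Nodes.BNOf Cfsg.Agent.Nodes.RGDChev Cfsg.Agent.Nodes.Coroot
open Cfsg.Agent.KFacts.RgdChevCoord
open Cfsg.Agent.Cam.Spor Cfsg.Agent.Cam.Ex
open Cfsg.Agent.H939.L64 (E2 KK LK em rE)
open Cfsg.Agent.E82 (cf)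
open Cfsg.Agent.H259.L34 (dz)
open Cfsg.Agent.H943.E8Tab (vecOf)
open scoped commutatorElement

/-- **the standard frame** -/
theorem boxFr : BoxFr := by
  obtain ⟨m, h1, h2, h3, h4⟩ := H28.GenF.mdata_std' (r := 2) tE8 (ZMod 2) H129.TorusChar.invC_E8 one_ne_zero (Or.inl rfl)
    (algebraMap (ZMod 2) KK) one_pos (by rw [Nat.card_zmod, pow_one])
  have hd : m.dd = 1 := by rw [h4, Nat.gcd_one_left]
  have he : m.e = 1 := by
    have h5 := m.hq.trans (ZMod.card 2)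
    exact Nat.pow_right_injective le_rfl (h5.trans (pow_one 2).symm)
  have hK := S1054.result (F := ZMod 2) chevE8 (by simp)
  have hidx : ∀ y, m.σ y = y → y ^ 1 ∈ m.ι.range := fun y hy => by
    have h5 := m.pow_dd y hy
    rwa [hd] at h5
  refine ⟨{
    e := m.e
    ι := m.ι
    F := m.σ
    g := m.g
    he := m.he
    frob := m.frob
    fr := m.fr
    pw := ?_
    gr := Frm.gr_refl h3
    gcp := Frm.cp_g m.fr.root
    inj := m.inj
    fix := m.fix
    der := fun y z hy hz => pow_one ⁅y, z⁆ ▸ hidx _ (by rw [map_commutatorElement, hy, hz])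
    idx := hidx
    cop := Nat.coprime_one_left _
    dle := Or.inl rfl
    simple := hK.1
    noncomm := hK.2 }, he, fun x => ?_⟩
  · intro a ha
    obtain ⟨s, hs, rfl⟩ := (isRoot_iff tE8 CoxeterMatrix.E₈.toCoxeterSystem a).1 ha
    obtain ⟨s', h5, h6, c, hc0, h7, -⟩ := m.act s hs
    refine ⟨c, hc0, fun t => ?_⟩
    rw [← h5, Frm.xc_vec hs, Frm.xc_vec h6, h7, m.hq]
  · exact DFunLike.congr_fun h1 x

/-- **all automorphisms are inner** -/
theorem boxInn : BoxInn := by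
  intro θ
  obtain ⟨y, f, h⟩ := E8K.aut8 (K := ZMod 2) θ
  refine ⟨y, fun x => ?_⟩
  have h1 : (f : ZMod 2 →+* ZMod 2) = RingHom.id _ := Subsingleton.elim _ _
  have h2 : E8A.em (RingHom.id (ZMod 2)) x = x := Subtype.ext (Units.ext rfl)
  rw [h x, h1, h2]

/-- the highest root -/
def th : Lat 8 := ![2, 3, 4, 6, 5, 4, 3, 2]

theorem chk_th : ∃ s < chevE8.nroots, vec chevE8 8 s = th := ⟨239, by decide +kernel, by decide +kernel⟩

theorem rt_th : Rt tE8 th := (isRoot_iff tE8 CoxeterMatrix.E₈.toCoxeterSystem th).2 chk_th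

theorem pair_th : ∀ i : Fin 8, i ≠ 7 → pairing (cartanOf chevE8 8) i th = 0 := by decide +kernel

theorem cp_th {a : Lat 8} (h : a 7 = 0) : cp tE8 a th = 0 := by
  rw [E82.Fr.sum_sr a]
  refine Finset.sum_induction _ (fun x => cp tE8 x th = 0) (fun x y h1 h2 => ?_) ?_ fun k _ => ?_
  · rw [cp_add _ _ rt_th, h1, h2, add_zero]
  · rw [← zero_smul ℤ (0 : Lat 8), cp_smul _ _ rt_th, zero_mul]
  · rw [cp_smul _ _ rt_th]
    by_cases hk : k = 7
    · rw [hk, h, zero_mul]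
    · rw [(cp_zero_comm rt_th (isRoot_sr _ _ k)).1 ((P.cp_sr _ _).trans (pair_th k hk)), mul_zero]

theorem chk_d6 : ∀ s < chevE8.nroots, dz (vecOf 5 [1, 0, 0, 0, 0, 0, 0, 1]) (vec chevE8 8 s) = 0 →
    vec chevE8 8 s 7 = 0 := by decide +kernel

/-- **the elements of order five** -/
theorem boxFive : BoxFive := by
  intro big U _ _ τ α β R R' co u hu
  have h5 : u ^ 5 = 1 := hu ▸ pow_orderOf_eq_one u
  have hx : τ u ^ 5 = 1 := by rw [← map_pow, h5, map_one]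
  have h1 : τ u ≠ 1 := fun h => by
    rw [co.pair.inj (h.trans (map_one τ).symm), orderOf_one] at hu
    exact absurd hu (by decide)
  refine (E82.fd5 hx h1).resolve_left fun h => ?_
  have := H413.L64.charKK
  have : NeZero ((5 : ℕ) : KK) := ⟨fun h => absurd ((CharP.cast_eq_zero_iff KK 2 5).1 h) (by decide)⟩
  obtain ⟨ζ, hζ⟩ := HasEnoughRootsOfUnity.exists_primitiveRoot KK 5
  obtain ⟨z, hz, hv⟩ := (E82.F5.norm5a hζ hx).1 h
  obtain ⟨E, -, hE⟩ := boxFr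
  obtain ⟨E', -, h2⟩ := E.exists_cj (Q := {τ u}) (Set.finite_singleton _) (g := z⁻¹) (by
    rintro _ rfl
    rw [hE, inv_inv]
    exact hz)
  have h3 : E'.ι (τ u) = z⁻¹ * em (τ u) * z := by rw [h2 _ rfl, hE, inv_inv]
  refine P.k1 E' big co Nat.prime_five le_rfl (Q := {u}) (by
    rintro _ rfl
    exact ⟨h5, h3 ▸ hz⟩) th rt_th fun a ha => ⟨cp_th ?_, Or.inl rfl⟩
  have h4 := ha.2 _ ⟨u, rfl, rfl⟩
  simp only at h4
  rw [h3, ← cX_rt hz ha.1, E82.Fr.cX_dz hζ hz hv] at h4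
  obtain ⟨s, hs, rfl⟩ := (isRoot_iff tE8 CoxeterMatrix.E₈.toCoxeterSystem a).1 ha.1
  refine chk_d6 s hs ((ZMod.val_eq_zero _).1 (Nat.eq_zero_of_dvd_of_lt ((hζ.pow_eq_one_iff_dvd _).1 h4) (ZMod.val_lt _)))

end Cfsg.Agent.Cam.Q2.Fr
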