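import Cfsg.Agent.Cam.Q2.L23

/-!
# S3690, `E₈(2)`: the box `L4` (helper66)

An eigenvector of order three for `W(D₄ A₂)` kills all or none of the roots of `D₄`.
-/

set_option autoImplicit false
set_option linter.unusedVariables false
set_option linter.style.longLine false
set_option maxRecDepth 100000

namespace Cfsg.Agent.Cam.Q2

namespace L4

open CoxeterSystem Cfsg Cfsg.Lie
open Cfsg.Agent.ChevalleyStructure.CoxeterGeom Cfsg.Agent.ChevalleyStructure.CoxeterGeomTypes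
open Cfsg.Agent.Tits.Roots Cfsg.Agent.Nodes.RGDChev Cfsg.Agent.Nodes.Coroot Cfsg.Agent.Nodes.SubComb
open Cfsg.Agent.H931.KC (hr psi psi_apply psi_sr eq_psi)
open Cfsg.Agent.Cam.Ex (Lat Rt wa cp WW Psi A2s ActA2 tE8 finite_Rt)
open Cfsg.Agent.Cam.Ex.Cb Cfsg.Agent.Cam.Ex.Cb.Ub
open Cfsg.Agent.Cam.Ex.SL3 (ev P2 Bv dl)
open Cfsg.Agent.Cam.Q2.NF (dE8 tabE8)
open Cfsg.Agent.Cam.Q2.L23

/-- eight roots of `E₈` -/
def M8 : List V := [[1, 0, 0, 0, 0, 0, 0, 0], [1, 0, 1, 0, 0, 0, 0, 0], [1, 0, 1, 1, 0, 0, 0, 0], [1, 0, 1, 1, 1, 0, 0, 0],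
  [1, 1, 1, 1, 0, 0, 0, 0], [1, 1, 1, 1, 1, 0, 0, 0], [1, 1, 1, 2, 1, 0, 0, 0], [1, 1, 2, 2, 1, 0, 0, 0]]

/-- the positive roots of `D₄` -/
def M12 : List V := [[0, 0, 0, 0, 1, 0, 0, 0], [0, 0, 0, 1, 0, 0, 0, 0], [0, 0, 1, 0, 0, 0, 0, 0], [0, 1, 0, 0, 0, 0, 0, 0],
  [0, 0, 0, 1, 1, 0, 0, 0], [0, 0, 1, 1, 0, 0, 0, 0], [0, 1, 0, 1, 0, 0, 0, 0], [0, 0, 1, 1, 1, 0, 0, 0],
  [0, 1, 0, 1, 1, 0, 0, 0], [0, 1, 1, 1, 0, 0, 0, 0], [0, 1, 1, 1, 1, 0, 0, 0], [0, 1, 1, 2, 1, 0, 0, 0]]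

theorem mem_M8 {a : Lat 8} : a ∈ M8.map (toF 8) ↔ Rt tE8 a ∧ a 0 = 1 ∧ a 5 = 0 := by
  constructor
  · intro ha
    obtain ⟨v, hv, rfl⟩ := List.mem_map.1 ha
    obtain ⟨e, he, h1, h4, h5⟩ := (by decide +kernel : ∀ v ∈ M8, ∃ e ∈ dE8.T, e.b = v ∧ gt v 0 = 1 ∧ gt v 5 = 0) v hv
    exact ⟨h1 ▸ tabE8.rt e he, h4, h5⟩
  · rintro ⟨ha, h1, h4⟩
    obtain ⟨e, he, rfl | rfl⟩ := tabE8.sur a ha
    · exact List.mem_map.2 ⟨_, (by decide +kernel : ∀ e ∈ dE8.T, gt e.b 0 = 1 → gt e.b 5 = 0 → e.b ∈ M8) e he h1 h4,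
        rfl⟩
    · have h5 : (0 : ℤ) ≤ toF 8 e.b 0 := tabE8.pos e he 0
      rw [Pi.neg_apply] at h1
      omega

theorem prod_M8 {N : Type} [CommMonoid N] (f : Lat 8 → N) {w : W8}
    (h0 : ∀ a, wa tE8 w a 0 = a 0) (h5 : ∀ a, wa tE8 w a 5 = a 5) :
    ((M8.map (toF 8)).map fun a => f (wa tE8 w a)).prod = ((M8.map (toF 8)).map f).prod := by
  classical
  have hn : (M8.map (toF 8)).Nodup := List.Nodup.map_on (fun x hx y hy h =>
    toF_inj ((by decide : ∀ v ∈ M8, v.length = 8) x hx) ((by decide : ∀ v ∈ M8, v.length = 8) y hy) h) (by decide)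
  have hi : Set.InjOn (wa tE8 w) (M8.map (toF 8)).toFinset := fun a _ b _ h => wa_inj tE8 h
  have e : (M8.map (toF 8)).toFinset.image (wa tE8 w) = (M8.map (toF 8)).toFinset := by
    refine Finset.eq_of_subset_of_card_le (fun a ha => ?_) (Finset.card_image_of_injOn hi).ge
    obtain ⟨b, hb, rfl⟩ := Finset.mem_image.1 ha
    rw [List.mem_toFinset, mem_M8] at hb ⊢
    exact ⟨hb.1.act w, (h0 b).trans hb.2.1, (h5 b).trans hb.2.2⟩
  rw [← List.prod_toFinset _ hn, ← List.prod_toFinset _ hn, ← Finset.prod_image hi, e]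

section field

variable {K : Type} [Field K]

theorem val5 (φ : Lat 8 →+ K) (a b c d e : ℤ) : φ (toF 8 [a, b, c, d, e, 0, 0, 0]) =
    a * φ (sr 0) + b * φ (sr 1) + c * φ (sr 2) + d * φ (sr 3) + e * φ (sr 4) := by
  rw [eq_sum, Fin.sum_univ_eight]
  show (a : K) * φ (sr 0) + b * φ (sr 1) + c * φ (sr 2) + d * φ (sr 3) + e * φ (sr 4) + ((0 : ℤ) : K) * φ (sr 5) +
    ((0 : ℤ) : K) * φ (sr 6) + ((0 : ℤ) : K) * φ (sr 7) = _
  simp

/-- an eigenvector kills all or none of the roots of `D₄` -/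
theorem d4_core (h2 : (2 : K) ≠ 0) (h3 : (3 : K) ≠ 0) {B : Lat 8 →+ K} {w : W8} (f0 : ∀ a, wa tE8 w a 0 = a 0)
    (f5 : ∀ a, wa tE8 w a 5 = a 5) {e : K} (he : e ^ 2 + e + 1 = 0) (hB : Eig tE8 w B e) {a : Lat 8} (ha : InD a)
    (hBa : B a = 0) {b : Lat 8} (hb : InD b) : B b = 0 := by
  have p1 := congrArg Multiplicative.toAdd (prod_M8 (fun a => Multiplicative.ofAdd (B a)) f0 f5)
  have p2 := congrArg Multiplicative.toAdd (prod_M8 (fun a => Multiplicative.ofAdd (B a ^ 2)) f0 f5)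
  have p4 := congrArg Multiplicative.toAdd (prod_M8 (fun a => Multiplicative.ofAdd (B a ^ 4)) f0 f5)
  have p8 := prod_M8 (fun a => B a) f0 f5
  simp only [M8, List.map_cons, List.map_nil, List.prod_cons, List.prod_nil, toAdd_mul, toAdd_ofAdd, toAdd_one, hB _,
    val5, Int.cast_one, Int.cast_zero, Int.cast_ofNat, one_mul, zero_mul, add_zero] at p1 p2 p4 p8
  obtain ⟨s1, e1⟩ : ∃ s, B (sr 0) = s := ⟨_, rfl⟩
  obtain ⟨s2, e2⟩ : ∃ s, B (sr 2) = s - s1 := ⟨B (sr 2) + s1, by ring⟩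
  obtain ⟨s3, e3⟩ : ∃ s, B (sr 3) = s - s2 := ⟨B (sr 3) + s2, by ring⟩
  obtain ⟨s4, e4⟩ : ∃ s, B (sr 4) = s - s3 := ⟨B (sr 4) + s3, by ring⟩
  have n1 := ne_one h3 he
  have n2 : e ^ 2 - 1 ≠ 0 := fun h => mul_ne_zero n1 (ne_neg_one he) (by linear_combination h)
  have e3' : e ^ 3 = 1 := by linear_combination (e - 1) * he
  rw [e1, e2, e3, e4] at p1 p2 p4 p8
  have e5 : B (sr 1) = -s3 - s4 := by
    refine sub_eq_zero.1 ((mul_eq_zero.1 (?_ : (2 * 2 * (e - 1)) * _ = 0)).resolve_left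
      (mul_ne_zero (mul_ne_zero h2 h2) n1))
    linear_combination p1
  rw [e5] at p2 p4 p8
  have q2 : s1 ^ 2 + s2 ^ 2 + s3 ^ 2 + s4 ^ 2 = 0 := by
    refine (mul_eq_zero.1 (?_ : (2 * (e ^ 2 - 1)) * _ = 0)).resolve_left (mul_ne_zero h2 n2)
    linear_combination p2
  have q4 : (s1 ^ 2) ^ 2 + (s2 ^ 2) ^ 2 + (s3 ^ 2) ^ 2 + (s4 ^ 2) ^ 2 = 0 := by
    refine (mul_eq_zero.1 (?_ : (2 * (e - 1)) * _ = 0)).resolve_left (mul_ne_zero h2 n1)
    linear_combination p4 - 2 * e * (s1 ^ 4 + s2 ^ 4 + s3 ^ 4 + s4 ^ 4) * e3'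
  have q8 : s1 ^ 2 * s2 ^ 2 * s3 ^ 2 * s4 ^ 2 = 0 := by
    refine (mul_eq_zero.1 (?_ : (e ^ 2 - 1) * _ = 0)).resolve_left n2
    linear_combination p8 - e ^ 2 * (e ^ 3 + 1) * (s1 ^ 2 * s2 ^ 2 * s3 ^ 2 * s4 ^ 2) * e3'
  have h12 : ∀ b, InD b → ∃ v ∈ M12, b = toF 8 v ∨ b = -toF 8 v := by
    intro b hb
    obtain ⟨f, hf, h1⟩ := tabE8.sur b hb.1
    refine ⟨f.b, (by decide +kernel : ∀ e ∈ dE8.T, isD e = true → e.b ∈ M12) f hf (isD_of ?_), h1⟩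
    rcases h1 with rfl | rfl
    · exact hb
    · have := hb.neg
      rwa [neg_neg] at this
  obtain ⟨v, hv, h1⟩ := h12 a ha
  have h4 : B (toF 8 v) = 0 := by
    rcases h1 with rfl | rfl
    · exact hBa
    · rwa [map_neg, neg_eq_zero] at hBa
  have h5 := four_key' h2 h3 q2 q4 q8 (by
    simp only [M12, List.mem_cons, List.not_mem_nil, or_false] at hv
    rcases hv with rfl | rfl | rfl | rfl | rfl | rfl | rfl | rfl | rfl | rfl | rfl | rfl <;>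
      rw [val5, e1, e2, e3, e4, e5] at h4 <;> push_cast at h4
    · exact Or.inr (Or.inr (Or.inr (Or.inr (Or.inr (by linear_combination (-1 * s3 - 1 * s4) * h4)))))
    · exact Or.inr (Or.inr (Or.inr (Or.inl (by linear_combination (-1 * s2 - 1 * s3) * h4))))
    · exact Or.inl (by linear_combination (-1 * s1 - 1 * s2) * h4)
    · exact Or.inr (Or.inr (Or.inr (Or.inr (Or.inr (by linear_combination (-1 * s3 - (-1) * s4) * h4)))))
    · exact Or.inr (Or.inr (Or.inr (Or.inr (Or.inl (by linear_combination (-1 * s2 - 1 * s4) * h4)))))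
    · exact Or.inr (Or.inl (by linear_combination (-1 * s1 - 1 * s3) * h4))
    · exact Or.inr (Or.inr (Or.inr (Or.inr (Or.inl (by linear_combination (-1 * s2 - (-1) * s4) * h4)))))
    · exact Or.inr (Or.inr (Or.inl (by linear_combination (-1 * s1 - 1 * s4) * h4)))
    · exact Or.inr (Or.inr (Or.inr (Or.inl (by linear_combination (-1 * s2 - (-1) * s3) * h4))))
    · exact Or.inr (Or.inr (Or.inl (by linear_combination (-1 * s1 - (-1) * s4) * h4)))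
    · exact Or.inr (Or.inl (by linear_combination (-1 * s1 - (-1) * s3) * h4))
    · exact Or.inl (by linear_combination (-1 * s1 - (-1) * s2) * h4))
  obtain ⟨z1, z2, z3, z4⟩ := h5
  rw [pow_eq_zero_iff two_ne_zero] at z1 z2 z3 z4
  subst z1 z2 z3 z4
  rw [eq_sum, Fin.sum_univ_eight, e1, e2, e3, e4, e5, hb.2.2.1, hb.2.2.2.1, hb.2.2.2.2]
  simp

end field

theorem all3 {G : Type} {f : Fin 3 → G} {i j k m : Fin 3} (hij : i ≠ j) (hkm : k ≠ m)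
    (h : dl i k - dl i m - (dl j k - dl j m) = -1) (h1 : f i = f j) (h2 : f k = f m) (n : Fin 3) : f n = f i := by
  rcases tri3 i j k m hij hkm h with ⟨rfl, h6⟩ | ⟨rfl, h6⟩
  · rcases cov3 i k m hij hkm h6.symm n with rfl | rfl | rfl
    exacts [rfl, h1.symm, (h1.trans h2).symm]
  · rcases cov3 m j k hij h6.symm hkm.symm n with rfl | rfl | rfl
    exacts [rfl, h1.symm, h2]

/-- the coordinate `5` modulo three -/
noncomputable def m3 : Lat 8 →+ ZMod 3 := (Int.castAddHom (ZMod 3)).comp (psi (sr 5))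

theorem m3_zero {a : Lat 8} : m3 a = 0 ↔ (3 : ℤ) ∣ a 5 := by
  show ((psi (sr 5) a : ℤ) : ZMod 3) = 0 ↔ _
  rw [psi_sr', ZMod.intCast_zmod_eq_zero_iff_dvd]
  rfl

theorem card_m3 : (Psi tE8 m3).ncard = 78 := by
  rw [tabE8.ncard_eq m3 (P := fun e => zr 3 (gt e.b 5)) fun e he => by rw [m3_zero, zr_iff]; rfl]
  decide +kernel

theorem card_A2s (c c' : Lat 8) : (A2s c c').ncard ≤ 6 := by
  classical
  have e : A2s c c' = (({c, c', c + c', -c, -c', -(c + c')} : Finset (Lat 8)) : Set (Lat 8)) := by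
    simp only [A2s, Finset.coe_insert, Finset.coe_singleton]
  rw [e, Set.ncard_coe_finset]
  exact Finset.card_le_six

theorem core {A B : Lat 8 →+ ZMod 7} (hA : S0 A) {w : W8} (hw : w ∈ WW tE8 (Psi tE8 A)) {e : ZMod 7}
    (he : e ^ 2 + e + 1 = 0) (hB : Eg w B e) (h0 : B ≠ 0) {c c' : Lat 8} (T : T8 (A + B) c c')
    (hX : (Psi tE8 (A + B)).ncard = 30) (k1 : A c = 0) (k2 : A c' = 0) : False := by
  have h2 : (2 : ZMod 7) ≠ 0 := by decide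
  have h3 : (3 : ZMod 7) ≠ 0 := by decide
  have : Fact (Nat.Prime 7) := ⟨by norm_num⟩
  have f0 : ∀ a, wa tE8 w a 0 = a 0 := fun a => by
    have := fixs_of_mem tE8 (φ := psi (sr 0)) (fun a ha => (psi_sr' 0 a).trans ((hA.ex a ha.1).1 ha.2).1) hw a
    rwa [psi_sr', psi_sr'] at this
  have f5 : ∀ a, wa tE8 w a 5 = a 5 := fun a => by
    have := fixs_of_mem tE8 (φ := psi (sr 5)) (fun a ha => (psi_sr' 5 a).trans ((hA.ex a ha.1).1 ha.2).2) hw a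
    rwa [psi_sr', psi_sr'] at this
  have b1 : B c = 0 := by have := T.k1; rwa [AddMonoidHom.add_apply, k1, zero_add] at this
  have b2 : B c' = 0 := by have := T.k2; rwa [AddMonoidHom.add_apply, k2, zero_add] at this
  have d4 : ∀ {a b}, InD a → B a = 0 → InD b → B b = 0 := fun ha h hb =>
    d4_core (K := ZMod 7) h2 h3 f0 f5 he hB ha h hb
  have nD : ∀ z ∈ A2s c c', B z = 0 → ¬ InD z := fun z hz h1 h4 => by
    obtain ⟨x, y, hx, hy, h5, h6, h7⟩ := h4.two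
    have h8 : ∀ x, InD x → x ∈ Psi tE8 (A + B) := fun x hx =>
      ⟨hx.1, by rw [AddMonoidHom.add_apply, (hA.inD hx).2, d4 h4 h1 hx, add_zero]⟩
    exact not_comp T.p2 T.orth hz (h8 x hx) (h8 y hy) h5 h6 h7
  obtain ⟨i, j, hij, ec⟩ := Ex.SL3.mem_A2s.1 ((hA.split ⟨T.p2.r1, k1⟩).resolve_right (nD c (Or.inl rfl) b1))
  obtain ⟨k, m, hkm, ec'⟩ := Ex.SL3.mem_A2s.1 ((hA.split ⟨T.p2.r2, k2⟩).resolve_right
    (nD c' (Or.inr (Or.inl rfl)) b2))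
  have h4 := T.p2.c1
  rw [ec, ec', cp_ev p67 _ _ hkm] at h4
  have h5 : ∀ n, B (ev (sr 6) (sr 7) n) = B (ev (sr 6) (sr 7) i) :=
    all3 (f := fun n => B (ev (sr 6) (sr 7) n)) hij hkm h4 (by rwa [ec, map_sub, sub_eq_zero] at b1)
      (by rwa [ec', map_sub, sub_eq_zero] at b2)
  have kB : ∀ a, InD a → B a ≠ 0 := fun a ha h6 => by
    refine Eig.not_kill (K := ZMod 7) h3 (φ := B) hB he h0 hw fun b hb => ?_
    rcases hA.split hb with h7 | h7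
    · obtain ⟨i', j', -, rfl⟩ := Ex.SL3.mem_A2s.1 h7
      rw [map_sub, h5, h5 j', sub_self]
    · exact d4 ha h6 h7
  have kAB : ∀ a, Rt tE8 a → A a = 0 → B a = 0 → a ∈ A2s (sr 6) (sr 7) := fun a ha h6 h7 =>
    (hA.split ⟨ha, h6⟩).resolve_right fun h8 => kB a h8 h7
  have uX : ∀ a ∈ Psi tE8 (A + B), (3 : ℤ) ∣ a 5 := by
    intro a ha
    rcases T.orth a ha with h6 | h6
    · have h7 := mem_Psi T.p2 k1 k2 h6
      rw [((hA.ex a h7.1).1 h7.2).2]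
      exact dvd_zero 3
    · rw [ec, ec', (p67.right hij a).2, (p67.right hkm a).2, sub_eq_zero, sub_eq_zero] at h6
      have h7 := all3 hij hkm h4 h6.1 h6.2
      have h8 : cp tE8 a (sr 6) + cp tE8 a (sr 7) = 0 := (h7 0).trans (h7 2).symm
      have h9 : cp tE8 a (sr 7) = 0 := (h7 1).trans (h7 2).symm
      rw [cp6, cp7] at h8
      rw [cp7] at h9
      omega
  have hf : ∀ a, A (wa tE8 w a) = A a := fixs_of_mem tE8 (fun a ha => ha.2) hw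
  have v0 : ∀ a, cw tE8 (A + B) 1 a = A a + 1 * B a := fun a => by rw [cw_apply, wa_one, one_mul]; rfl
  have v1 : ∀ a, cw tE8 (A + B) w a = A a + e * B a := fun a => by
    rw [cw_apply, AddMonoidHom.add_apply, hf, hB]
  have v2 : ∀ a, cw tE8 (A + B) (w * w) a = A a + e ^ 2 * B a := fun a => by
    rw [cw_apply, AddMonoidHom.add_apply, wa_mul, hf, hf, hB, hB, ← mul_assoc, sq]
  have n0 : e ≠ 0 := fun h => one_ne_zero (α := ZMod 7) (by rw [h] at he; linear_combination he)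
  have n1 : e - 1 ≠ 0 := ne_one (K := ZMod 7) h3 he
  have n1' : e + 1 ≠ 0 := ne_neg_one (K := ZMod 7) he
  have n2 : e ^ 2 - 1 ≠ 0 := fun h => mul_ne_zero n1 n1' (by linear_combination h)
  have n3 : e ^ 2 - e ≠ 0 := fun h => mul_ne_zero n0 n1 (by linear_combination h)
  have dj : ∀ {φ ψ : Lat 8 →+ ZMod 7} {s t : ZMod 7}, (∀ a, φ a = A a + s * B a) → (∀ a, ψ a = A a + t * B a) →
      t - s ≠ 0 → Disjoint (Psi tE8 φ \ A2s (sr 6) (sr 7)) (Psi tE8 ψ \ A2s (sr 6) (sr 7)) :=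
    fun {φ ψ s t} hs ht h => Set.disjoint_left.2 fun a ha hb => by
    have h6 := ha.1.2
    have h7 := hb.1.2
    rw [hs] at h6
    rw [ht] at h7
    have h8 : B a = 0 := (mul_eq_zero.1 (by linear_combination h7 - h6)).resolve_left h
    exact ha.2 (kAB a ha.1.1 (by linear_combination h6 - s * h8) h8)
  have vA : ∀ a, A a = A a + 0 * B a := fun a => by rw [zero_mul, add_zero]
  have fin : ∀ {G : Type} [AddCommGroup G] (φ : Lat 8 →+ G), (Psi tE8 φ).Finite := fun φ =>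
    (finite_Rt tE8).subset fun a ha => ha.1
  have fin' : ∀ φ : Lat 8 →+ ZMod 7, (Psi tE8 φ \ A2s (sr 6) (sr 7)).Finite := fun φ => (fin φ).sdiff
  have lo : ∀ φ : Lat 8 →+ ZMod 7, (Psi tE8 φ).ncard = 30 → 24 ≤ (Psi tE8 φ \ A2s (sr 6) (sr 7)).ncard := fun φ h => by
    have h6 := Set.ncard_le_ncard_sdiff_add_ncard (Psi tE8 φ) (t := A2s (sr 6) (sr 7))
      ((fin A).subset fun a ha => mem_Psi p67 hA.k6 hA.k7 ha)
    have h7 := card_A2s (sr 6) (sr 7)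
    omega
  have c2 : ∀ x, 24 ≤ (Psi tE8 (cw tE8 (A + B) x) \ A2s (sr 6) (sr 7)).ncard := fun x =>
    lo _ ((ncard_cw tE8 _ x).trans hX)
  have up : ∀ x, (∀ a, wa tE8 x a 5 = a 5) → ∀ a ∈ Psi tE8 (cw tE8 (A + B) x) \ A2s (sr 6) (sr 7), a ∈ Psi tE8 m3 :=
    fun x hx a ha => ⟨ha.1.1, m3_zero.2 (hx a ▸ uX _ ((mem_cw tE8).1 ha.1))⟩
  have h6 : ((Psi tE8 A \ A2s (sr 6) (sr 7)) ∪ (Psi tE8 (cw tE8 (A + B) 1) \ A2s (sr 6) (sr 7)) ∪
      ((Psi tE8 (cw tE8 (A + B) w) \ A2s (sr 6) (sr 7)) ∪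
      (Psi tE8 (cw tE8 (A + B) (w * w)) \ A2s (sr 6) (sr 7)))).ncard ≤ 78 := by
    rw [← card_m3]
    refine Set.ncard_le_ncard ?_ (fin m3)
    rintro a ((ha | ha) | (ha | ha))
    · exact ⟨ha.1.1, m3_zero.2 (by rw [((hA.ex a ha.1.1).1 ha.1.2).2]; exact dvd_zero 3)⟩
    · exact up 1 (fun a => by rw [wa_one]) a ha
    · exact up w f5 a ha
    · exact up (w * w) (fun a => by rw [wa_mul, f5, f5]) a ha
  rw [Set.ncard_union_eq (Set.disjoint_union_left.2 ⟨Set.disjoint_union_right.2 ⟨dj vA v1 (by rwa [sub_zero]),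
    dj vA v2 (by rw [sub_zero]; exact pow_ne_zero 2 n0)⟩, Set.disjoint_union_right.2 ⟨dj v0 v1 n1, dj v0 v2 n2⟩⟩)
    ((fin' _).union (fin' _)) ((fin' _).union (fin' _)),
    Set.ncard_union_eq (dj vA v0 (by rw [sub_zero]; exact one_ne_zero)) (fin' _) (fin' _),
    Set.ncard_union_eq (dj v1 v2 n3) (fin' _) (fin' _)] at h6
  have h7 := lo A hA.card
  have h8 := c2 1
  have h9 := c2 w
  have h10 := c2 (w * w)
  omega

end L4

open L23 Cfsg.Agent.Cam.Ex Cfsg.Agent.Cam.Ex.Cb in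
theorem boxL4 : BoxL4 := by
  rintro A B w c c' hA hX T hw hB h0 ⟨k1, k2⟩
  obtain ⟨u, h1⟩ := Std.s0 hA
  obtain ⟨e, he, h2⟩ : ∃ e : ZMod 7, e ^ 2 + e + 1 = 0 ∧ Eg w B e := by
    rcases hB with h | h
    · exact ⟨2, by decide, h⟩
    · exact ⟨4, by decide, h⟩
  have e1 : cw tE8 (cw tE8 A u + cw tE8 B u) u⁻¹ = A + B := AddMonoidHom.ext fun a => by
    rw [cw_add, cw_apply, cw_apply, Cb.wa_inv']
  refine L4.core h1 (conj_mem_WW tE8 hw u) he (Eg.conj h2 u) (cw_ne tE8 h0 u) (c := wa tE8 u⁻¹ c) (c' := wa tE8 u⁻¹ c')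
    (T8.act (by rw [e1]; exact T)) ?_ ?_ ?_
  · rw [cw_add, ncard_cw, Std.card hX]
  · rw [cw_apply, Cb.wa_inv', k1]
  · rw [cw_apply, Cb.wa_inv', k2]

end Cfsg.Agent.Cam.Q2
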