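import Cfsg.Agent.Cam.Ex.Cb0

/-!
# The root table of `E₈`
-/

set_option autoImplicit false
set_option linter.unusedVariables false
set_option linter.style.longLine false
set_option maxRecDepth 100000
set_option maxHeartbeats 400000

namespace Cfsg.Agent.Cam.Q2.NF

open Cfsg Cfsg.Lie Cfsg.Agent.Cam.Ex Cfsg.Agent.Cam.Ex.Cb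

/-- the table of `E8` -/
def dE8 : Dt where
  T := [
    ⟨[0, 0, 0, 0, 0, 0, 0, 1], [0, 0, 0, 0, 0, 0, -1, 2], 2⟩,
    ⟨[0, 0, 0, 0, 0, 0, 1, 0], [0, 0, 0, 0, 0, -1, 2, -1], 2⟩,
    ⟨[0, 0, 0, 0, 0, 1, 0, 0], [0, 0, 0, 0, -1, 2, -1, 0], 2⟩,
    ⟨[0, 0, 0, 0, 1, 0, 0, 0], [0, 0, 0, -1, 2, -1, 0, 0], 2⟩,
    ⟨[0, 0, 0, 1, 0, 0, 0, 0], [0, -1, -1, 2, -1, 0, 0, 0], 2⟩,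
    ⟨[0, 0, 1, 0, 0, 0, 0, 0], [-1, 0, 2, -1, 0, 0, 0, 0], 2⟩,
    ⟨[0, 1, 0, 0, 0, 0, 0, 0], [0, 2, 0, -1, 0, 0, 0, 0], 2⟩,
    ⟨[1, 0, 0, 0, 0, 0, 0, 0], [2, 0, -1, 0, 0, 0, 0, 0], 2⟩,
    ⟨[0, 0, 0, 0, 0, 0, 1, 1], [0, 0, 0, 0, 0, -1, 1, 1], 2⟩,
    ⟨[0, 0, 0, 0, 0, 1, 1, 0], [0, 0, 0, 0, -1, 1, 1, -1], 2⟩,
    ⟨[0, 0, 0, 0, 1, 1, 0, 0], [0, 0, 0, -1, 1, 1, -1, 0], 2⟩,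
    ⟨[0, 0, 0, 1, 1, 0, 0, 0], [0, -1, -1, 1, 1, -1, 0, 0], 2⟩,
    ⟨[0, 0, 1, 1, 0, 0, 0, 0], [-1, -1, 1, 1, -1, 0, 0, 0], 2⟩,
    ⟨[0, 1, 0, 1, 0, 0, 0, 0], [0, 1, -1, 1, -1, 0, 0, 0], 2⟩,
    ⟨[1, 0, 1, 0, 0, 0, 0, 0], [1, 0, 1, -1, 0, 0, 0, 0], 2⟩,
    ⟨[0, 0, 0, 0, 0, 1, 1, 1], [0, 0, 0, 0, -1, 1, 0, 1], 2⟩,
    ⟨[0, 0, 0, 0, 1, 1, 1, 0], [0, 0, 0, -1, 1, 0, 1, -1], 2⟩,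
    ⟨[0, 0, 0, 1, 1, 1, 0, 0], [0, -1, -1, 1, 0, 1, -1, 0], 2⟩,
    ⟨[0, 0, 1, 1, 1, 0, 0, 0], [-1, -1, 1, 0, 1, -1, 0, 0], 2⟩,
    ⟨[0, 1, 0, 1, 1, 0, 0, 0], [0, 1, -1, 0, 1, -1, 0, 0], 2⟩,
    ⟨[0, 1, 1, 1, 0, 0, 0, 0], [-1, 1, 1, 0, -1, 0, 0, 0], 2⟩,
    ⟨[1, 0, 1, 1, 0, 0, 0, 0], [1, -1, 0, 1, -1, 0, 0, 0], 2⟩,
    ⟨[0, 0, 0, 0, 1, 1, 1, 1], [0, 0, 0, -1, 1, 0, 0, 1], 2⟩,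
    ⟨[0, 0, 0, 1, 1, 1, 1, 0], [0, -1, -1, 1, 0, 0, 1, -1], 2⟩,
    ⟨[0, 0, 1, 1, 1, 1, 0, 0], [-1, -1, 1, 0, 0, 1, -1, 0], 2⟩,
    ⟨[0, 1, 0, 1, 1, 1, 0, 0], [0, 1, -1, 0, 0, 1, -1, 0], 2⟩,
    ⟨[0, 1, 1, 1, 1, 0, 0, 0], [-1, 1, 1, -1, 1, -1, 0, 0], 2⟩,
    ⟨[1, 0, 1, 1, 1, 0, 0, 0], [1, -1, 0, 0, 1, -1, 0, 0], 2⟩,
    ⟨[1, 1, 1, 1, 0, 0, 0, 0], [1, 1, 0, 0, -1, 0, 0, 0], 2⟩,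
    ⟨[0, 0, 0, 1, 1, 1, 1, 1], [0, -1, -1, 1, 0, 0, 0, 1], 2⟩,
    ⟨[0, 0, 1, 1, 1, 1, 1, 0], [-1, -1, 1, 0, 0, 0, 1, -1], 2⟩,
    ⟨[0, 1, 0, 1, 1, 1, 1, 0], [0, 1, -1, 0, 0, 0, 1, -1], 2⟩,
    ⟨[0, 1, 1, 1, 1, 1, 0, 0], [-1, 1, 1, -1, 0, 1, -1, 0], 2⟩,
    ⟨[0, 1, 1, 2, 1, 0, 0, 0], [-1, 0, 0, 1, 0, -1, 0, 0], 2⟩,
    ⟨[1, 0, 1, 1, 1, 1, 0, 0], [1, -1, 0, 0, 0, 1, -1, 0], 2⟩,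
    ⟨[1, 1, 1, 1, 1, 0, 0, 0], [1, 1, 0, -1, 1, -1, 0, 0], 2⟩,
    ⟨[0, 0, 1, 1, 1, 1, 1, 1], [-1, -1, 1, 0, 0, 0, 0, 1], 2⟩,
    ⟨[0, 1, 0, 1, 1, 1, 1, 1], [0, 1, -1, 0, 0, 0, 0, 1], 2⟩,
    ⟨[0, 1, 1, 1, 1, 1, 1, 0], [-1, 1, 1, -1, 0, 0, 1, -1], 2⟩,
    ⟨[0, 1, 1, 2, 1, 1, 0, 0], [-1, 0, 0, 1, -1, 1, -1, 0], 2⟩,
    ⟨[1, 0, 1, 1, 1, 1, 1, 0], [1, -1, 0, 0, 0, 0, 1, -1], 2⟩,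
    ⟨[1, 1, 1, 1, 1, 1, 0, 0], [1, 1, 0, -1, 0, 1, -1, 0], 2⟩,
    ⟨[1, 1, 1, 2, 1, 0, 0, 0], [1, 0, -1, 1, 0, -1, 0, 0], 2⟩,
    ⟨[0, 1, 1, 1, 1, 1, 1, 1], [-1, 1, 1, -1, 0, 0, 0, 1], 2⟩,
    ⟨[0, 1, 1, 2, 1, 1, 1, 0], [-1, 0, 0, 1, -1, 0, 1, -1], 2⟩,
    ⟨[0, 1, 1, 2, 2, 1, 0, 0], [-1, 0, 0, 0, 1, 0, -1, 0], 2⟩,
    ⟨[1, 0, 1, 1, 1, 1, 1, 1], [1, -1, 0, 0, 0, 0, 0, 1], 2⟩,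
    ⟨[1, 1, 1, 1, 1, 1, 1, 0], [1, 1, 0, -1, 0, 0, 1, -1], 2⟩,
    ⟨[1, 1, 1, 2, 1, 1, 0, 0], [1, 0, -1, 1, -1, 1, -1, 0], 2⟩,
    ⟨[1, 1, 2, 2, 1, 0, 0, 0], [0, 0, 1, 0, 0, -1, 0, 0], 2⟩,
    ⟨[0, 1, 1, 2, 1, 1, 1, 1], [-1, 0, 0, 1, -1, 0, 0, 1], 2⟩,
    ⟨[0, 1, 1, 2, 2, 1, 1, 0], [-1, 0, 0, 0, 1, -1, 1, -1], 2⟩,
    ⟨[1, 1, 1, 1, 1, 1, 1, 1], [1, 1, 0, -1, 0, 0, 0, 1], 2⟩,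
    ⟨[1, 1, 1, 2, 1, 1, 1, 0], [1, 0, -1, 1, -1, 0, 1, -1], 2⟩,
    ⟨[1, 1, 1, 2, 2, 1, 0, 0], [1, 0, -1, 0, 1, 0, -1, 0], 2⟩,
    ⟨[1, 1, 2, 2, 1, 1, 0, 0], [0, 0, 1, 0, -1, 1, -1, 0], 2⟩,
    ⟨[0, 1, 1, 2, 2, 1, 1, 1], [-1, 0, 0, 0, 1, -1, 0, 1], 2⟩,
    ⟨[0, 1, 1, 2, 2, 2, 1, 0], [-1, 0, 0, 0, 0, 1, 0, -1], 2⟩,
    ⟨[1, 1, 1, 2, 1, 1, 1, 1], [1, 0, -1, 1, -1, 0, 0, 1], 2⟩,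
    ⟨[1, 1, 1, 2, 2, 1, 1, 0], [1, 0, -1, 0, 1, -1, 1, -1], 2⟩,
    ⟨[1, 1, 2, 2, 1, 1, 1, 0], [0, 0, 1, 0, -1, 0, 1, -1], 2⟩,
    ⟨[1, 1, 2, 2, 2, 1, 0, 0], [0, 0, 1, -1, 1, 0, -1, 0], 2⟩,
    ⟨[0, 1, 1, 2, 2, 2, 1, 1], [-1, 0, 0, 0, 0, 1, -1, 1], 2⟩,
    ⟨[1, 1, 1, 2, 2, 1, 1, 1], [1, 0, -1, 0, 1, -1, 0, 1], 2⟩,
    ⟨[1, 1, 1, 2, 2, 2, 1, 0], [1, 0, -1, 0, 0, 1, 0, -1], 2⟩,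
    ⟨[1, 1, 2, 2, 1, 1, 1, 1], [0, 0, 1, 0, -1, 0, 0, 1], 2⟩,
    ⟨[1, 1, 2, 2, 2, 1, 1, 0], [0, 0, 1, -1, 1, -1, 1, -1], 2⟩,
    ⟨[1, 1, 2, 3, 2, 1, 0, 0], [0, -1, 0, 1, 0, 0, -1, 0], 2⟩,
    ⟨[0, 1, 1, 2, 2, 2, 2, 1], [-1, 0, 0, 0, 0, 0, 1, 0], 2⟩,
    ⟨[1, 1, 1, 2, 2, 2, 1, 1], [1, 0, -1, 0, 0, 1, -1, 1], 2⟩,
    ⟨[1, 1, 2, 2, 2, 1, 1, 1], [0, 0, 1, -1, 1, -1, 0, 1], 2⟩,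
    ⟨[1, 1, 2, 2, 2, 2, 1, 0], [0, 0, 1, -1, 0, 1, 0, -1], 2⟩,
    ⟨[1, 1, 2, 3, 2, 1, 1, 0], [0, -1, 0, 1, 0, -1, 1, -1], 2⟩,
    ⟨[1, 2, 2, 3, 2, 1, 0, 0], [0, 1, 0, 0, 0, 0, -1, 0], 2⟩,
    ⟨[1, 1, 1, 2, 2, 2, 2, 1], [1, 0, -1, 0, 0, 0, 1, 0], 2⟩,
    ⟨[1, 1, 2, 2, 2, 2, 1, 1], [0, 0, 1, -1, 0, 1, -1, 1], 2⟩,
    ⟨[1, 1, 2, 3, 2, 1, 1, 1], [0, -1, 0, 1, 0, -1, 0, 1], 2⟩,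
    ⟨[1, 1, 2, 3, 2, 2, 1, 0], [0, -1, 0, 1, -1, 1, 0, -1], 2⟩,
    ⟨[1, 2, 2, 3, 2, 1, 1, 0], [0, 1, 0, 0, 0, -1, 1, -1], 2⟩,
    ⟨[1, 1, 2, 2, 2, 2, 2, 1], [0, 0, 1, -1, 0, 0, 1, 0], 2⟩,
    ⟨[1, 1, 2, 3, 2, 2, 1, 1], [0, -1, 0, 1, -1, 1, -1, 1], 2⟩,
    ⟨[1, 1, 2, 3, 3, 2, 1, 0], [0, -1, 0, 0, 1, 0, 0, -1], 2⟩,
    ⟨[1, 2, 2, 3, 2, 1, 1, 1], [0, 1, 0, 0, 0, -1, 0, 1], 2⟩,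
    ⟨[1, 2, 2, 3, 2, 2, 1, 0], [0, 1, 0, 0, -1, 1, 0, -1], 2⟩,
    ⟨[1, 1, 2, 3, 2, 2, 2, 1], [0, -1, 0, 1, -1, 0, 1, 0], 2⟩,
    ⟨[1, 1, 2, 3, 3, 2, 1, 1], [0, -1, 0, 0, 1, 0, -1, 1], 2⟩,
    ⟨[1, 2, 2, 3, 2, 2, 1, 1], [0, 1, 0, 0, -1, 1, -1, 1], 2⟩,
    ⟨[1, 2, 2, 3, 3, 2, 1, 0], [0, 1, 0, -1, 1, 0, 0, -1], 2⟩,
    ⟨[1, 1, 2, 3, 3, 2, 2, 1], [0, -1, 0, 0, 1, -1, 1, 0], 2⟩,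
    ⟨[1, 2, 2, 3, 2, 2, 2, 1], [0, 1, 0, 0, -1, 0, 1, 0], 2⟩,
    ⟨[1, 2, 2, 3, 3, 2, 1, 1], [0, 1, 0, -1, 1, 0, -1, 1], 2⟩,
    ⟨[1, 2, 2, 4, 3, 2, 1, 0], [0, 0, -1, 1, 0, 0, 0, -1], 2⟩,
    ⟨[1, 1, 2, 3, 3, 3, 2, 1], [0, -1, 0, 0, 0, 1, 0, 0], 2⟩,
    ⟨[1, 2, 2, 3, 3, 2, 2, 1], [0, 1, 0, -1, 1, -1, 1, 0], 2⟩,
    ⟨[1, 2, 2, 4, 3, 2, 1, 1], [0, 0, -1, 1, 0, 0, -1, 1], 2⟩,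
    ⟨[1, 2, 3, 4, 3, 2, 1, 0], [-1, 0, 1, 0, 0, 0, 0, -1], 2⟩,
    ⟨[1, 2, 2, 3, 3, 3, 2, 1], [0, 1, 0, -1, 0, 1, 0, 0], 2⟩,
    ⟨[1, 2, 2, 4, 3, 2, 2, 1], [0, 0, -1, 1, 0, -1, 1, 0], 2⟩,
    ⟨[1, 2, 3, 4, 3, 2, 1, 1], [-1, 0, 1, 0, 0, 0, -1, 1], 2⟩,
    ⟨[2, 2, 3, 4, 3, 2, 1, 0], [1, 0, 0, 0, 0, 0, 0, -1], 2⟩,
    ⟨[1, 2, 2, 4, 3, 3, 2, 1], [0, 0, -1, 1, -1, 1, 0, 0], 2⟩,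
    ⟨[1, 2, 3, 4, 3, 2, 2, 1], [-1, 0, 1, 0, 0, -1, 1, 0], 2⟩,
    ⟨[2, 2, 3, 4, 3, 2, 1, 1], [1, 0, 0, 0, 0, 0, -1, 1], 2⟩,
    ⟨[1, 2, 2, 4, 4, 3, 2, 1], [0, 0, -1, 0, 1, 0, 0, 0], 2⟩,
    ⟨[1, 2, 3, 4, 3, 3, 2, 1], [-1, 0, 1, 0, -1, 1, 0, 0], 2⟩,
    ⟨[2, 2, 3, 4, 3, 2, 2, 1], [1, 0, 0, 0, 0, -1, 1, 0], 2⟩,
    ⟨[1, 2, 3, 4, 4, 3, 2, 1], [-1, 0, 1, -1, 1, 0, 0, 0], 2⟩,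
    ⟨[2, 2, 3, 4, 3, 3, 2, 1], [1, 0, 0, 0, -1, 1, 0, 0], 2⟩,
    ⟨[1, 2, 3, 5, 4, 3, 2, 1], [-1, -1, 0, 1, 0, 0, 0, 0], 2⟩,
    ⟨[2, 2, 3, 4, 4, 3, 2, 1], [1, 0, 0, -1, 1, 0, 0, 0], 2⟩,
    ⟨[1, 3, 3, 5, 4, 3, 2, 1], [-1, 1, 0, 0, 0, 0, 0, 0], 2⟩,
    ⟨[2, 2, 3, 5, 4, 3, 2, 1], [1, -1, -1, 1, 0, 0, 0, 0], 2⟩,
    ⟨[2, 2, 4, 5, 4, 3, 2, 1], [0, -1, 1, 0, 0, 0, 0, 0], 2⟩,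
    ⟨[2, 3, 3, 5, 4, 3, 2, 1], [1, 1, -1, 0, 0, 0, 0, 0], 2⟩,
    ⟨[2, 3, 4, 5, 4, 3, 2, 1], [0, 1, 1, -1, 0, 0, 0, 0], 2⟩,
    ⟨[2, 3, 4, 6, 4, 3, 2, 1], [0, 0, 0, 1, -1, 0, 0, 0], 2⟩,
    ⟨[2, 3, 4, 6, 5, 3, 2, 1], [0, 0, 0, 0, 1, -1, 0, 0], 2⟩,
    ⟨[2, 3, 4, 6, 5, 4, 2, 1], [0, 0, 0, 0, 0, 1, -1, 0], 2⟩,
    ⟨[2, 3, 4, 6, 5, 4, 3, 1], [0, 0, 0, 0, 0, 0, 1, -1], 2⟩,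
    ⟨[2, 3, 4, 6, 5, 4, 3, 2], [0, 0, 0, 0, 0, 0, 0, 1], 2⟩]
  mx := 2
  C := [[2, 0, -1, 0, 0, 0, 0, 0], [0, 2, 0, -1, 0, 0, 0, 0], [-1, 0, 2, -1, 0, 0, 0, 0], [0, -1, -1, 2, -1, 0, 0, 0], [0, 0, 0, -1, 2, -1, 0, 0], [0, 0, 0, 0, -1, 2, -1, 0], [0, 0, 0, 0, 0, -1, 2, -1], [0, 0, 0, 0, 0, 0, -1, 2]]
  H := [2, 3, 4, 6, 5, 4, 3, 2]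

theorem chkE8 : TabChk chevE8 8 ![![2, 0, -1, 0, 0, 0, 0, 0], ![0, 2, 0, -1, 0, 0, 0, 0], ![-1, 0, 2, -1, 0, 0, 0, 0], ![0, -1, -1, 2, -1, 0, 0, 0], ![0, 0, 0, -1, 2, -1, 0, 0], ![0, 0, 0, 0, -1, 2, -1, 0], ![0, 0, 0, 0, 0, -1, 2, -1], ![0, 0, 0, 0, 0, 0, -1, 2]] dE8 := by
  unfold TabChk
  decide +kernel

theorem tabE8 : Tab tE8 dE8 := tab_of tE8 chkE8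

end Cfsg.Agent.Cam.Q2.NF
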