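import Cfsg.Agent.Cam.Q2.Iface
import Cfsg.Agent.Cam.Q2.NFTab
import Cfsg.Agent.Cam.Ex.U2

/-!
# S3690, the group `E₈(2)`: the box `NF` (helper52)

A character of prime order `r ≥ 7` of the root lattice of `E₈` with `K1` kills a Levi subsystem of corank one or two.  If it is
conjugate to its double, the type is `D₄ A₂` and `r = 7`; the twelve regular points are conjugate under `W`.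
-/

set_option autoImplicit false
set_option linter.unusedVariables false
set_option linter.unusedSectionVars false
set_option linter.style.longLine false
set_option maxRecDepth 100000
set_option maxHeartbeats 400000

namespace Cfsg.Agent.Cam.Q2.NF

open CoxeterSystem Cfsg Cfsg.Lie
open Cfsg.Agent.ChevalleyStructure.CoxeterGeom Cfsg.Agent.ChevalleyStructure.CoxeterGeomTypes
open Cfsg.Agent.Tits.Roots Cfsg.Agent.Nodes.RGDChev Cfsg.Agent.Nodes.Coroot Cfsg.Agent.Nodes.SubComb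
open Cfsg.Agent.H931.KC (hr psi psi_apply psi_sr eq_psi Kac exists_alcove dvd_iff)
open Cfsg.Agent.BpExc.Fr (repAut)
open Cfsg.Agent.Cam.Ex Cfsg.Agent.Cam.Ex.Cb Cfsg.Agent.Cam.Ex.Cb.Ub

/-- the check of a pattern of Kac coordinates, for a modulus prime to five -/
noncomputable def tchk5 (l : ℕ) (d : Dt) (WT : List (V × List ℕ × V)) (P0 : ℤ) (P : V) : Bool :=
  (ieq P0 0 && al (fun i => zr 5 (gt d.H i * gt P i)) (List.range l)) || tchk l d WT P0 P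

section general

variable {D : ChevalleyDatum} {l : ℕ} {M : CoxeterMatrix (Fin l)} {hp : IsType D l M} {d : Dt} (hT : Tab hp d)

include hT in
/-- the types for a modulus prime to thirty (the proof of `Tab.types`) -/
theorem types30 {WT : List (V × List ℕ × V)}
    (hc : al (fun P => tchk5 l d WT 0 P && tchk5 l d WT 1 P) (pats [0, 1] l) = true) {r : ℕ} (hr' : 0 < r)
    (hr2 : ¬ (2 : ℤ) ∣ r) (hr3 : ¬ (3 : ℤ) ∣ r) (hr5 : ¬ (5 : ℤ) ∣ r) {p : ℕ} {φ : Lat l →+ ZMod r} (h0 : φ ≠ 0)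
    (hK : K1 hp p (Psi hp φ)) : ∃ w, ∃ t ∈ WT, Exa hp (cw hp φ w) t.2.2 := by
  classical
  have : NeZero r := ⟨hr'.ne'⟩
  obtain ⟨w, c, c0, hk, hw⟩ := exists_alcove hp hr' (psi fun i => ((φ (sr i)).val : ℤ))
  have hb : ∀ x, ((psi (fun i => ((φ (sr i)).val : ℤ)) x : ℤ) : ZMod r) = φ x := by
    intro x
    rw [eq_sum φ x, psi_apply]
    push_cast
    exact Finset.sum_congr rfl fun i _ => by rw [ZMod.natCast_zmod_val]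
  have h1 : ∀ x, φ (wa hp w x) = 0 ↔ (r : ℤ) ∣ ∑ i, x i * c i := by
    intro x
    rw [← hb, ZMod.intCast_zmod_eq_zero_iff_dvd]
    have h2 := hw x
    constructor
    · intro h3
      have := dvd_add h2 h3
      rwa [sub_add_cancel] at this
    · intro h3
      have := dvd_sub h3 h2
      rwa [sub_sub_cancel] at this
  set f : Fin l → ℕ := fun i => if c i = 0 then 0 else 1 with hf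
  set f0 : ℕ := if c0 = 0 then 0 else 1 with hf0
  set P : V := List.ofFn fun i => (f i : ℤ) with hP
  have hfz : ∀ i, f i = 0 ↔ c i = 0 := fun i => by by_cases h : c i = 0 <;> simp [hf, h]
  have hf0z : f0 = 0 ↔ c0 = 0 := by by_cases h : c0 = 0 <;> simp [hf0, h]
  have hPl : P.length = l := List.length_ofFn
  have hPg : ∀ i : Fin l, gt P i = f i := gt_ofFn _
  have hPF : toF l P = fun i => (f i : ℤ) := toF_ofFn _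
  have hmem : P ∈ pats [0, 1] l := mem_pats _ fun i => by by_cases h : c i = 0 <;> simp [hf, h]
  have h2 := Bool.and_eq_true_iff.1 (al_iff.1 hc P hmem)
  have h3 : tchk5 l d WT (f0 : ℤ) P = true := by
    by_cases h : c0 = 0
    · have : f0 = 0 := hf0z.2 h
      rw [this]; exact h2.1
    · have : f0 = 1 := by simp [hf0, h]
      rw [this]; exact h2.2
  have hgcd : ∀ m : ℤ, (ieq (f0 : ℤ) 0 && al (fun i => zr m (gt d.H i * gt P i)) (List.range l)) = true → m ∣ r := by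
    intro m hm
    obtain ⟨h4, h6⟩ := Bool.and_eq_true_iff.1 hm
    have h7 : c0 = 0 := hf0z.1 (by exact_mod_cast ieq_iff.1 h4)
    rw [← hk.sum, h7, Nat.cast_zero, zero_add]
    refine Finset.dvd_sum fun i _ => ?_
    by_cases h : c i = 0
    · rw [h, Nat.cast_zero, mul_zero]; exact dvd_zero _
    · have h8 := zr_iff.1 (al_iff.1 h6 i (List.mem_range.2 i.2))
      have h9 : f i = 1 := by simp [hf, h]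
      rw [hPg, h9, Nat.cast_one, mul_one, ← toF_apply, hT.hi] at h8
      exact h8.mul_right _
  unfold tchk5 at h3
  rcases Bool.or_eq_true_iff.1 h3 with h4 | h3
  · exact absurd (hgcd 5 h4) hr5
  unfold tchk at h3
  rcases Bool.or_eq_true_iff.1 h3 with h4 | h4
  · exact absurd (hgcd 2 h4) hr2
  rcases Bool.or_eq_true_iff.1 h4 with h4 | h4
  · exact absurd (hgcd 3 h4) hr3
  obtain ⟨hN, h4⟩ := Bool.and_eq_true_iff.1 h4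
  rw [decide_eq_true_iff] at hN
  obtain ⟨N, hNe⟩ := Int.eq_ofNat_of_zero_le hN.le
  have hk' : Kac D l N f f0 := by
    refine ⟨by omega, ?_⟩
    rw [← hNe, dot_eq hPl, hT.hi, hPF]
    congr 1
    exact Finset.sum_congr rfl fun i _ => mul_comm _ _
  have hE : ∀ a, Rt hp a → (φ (wa hp w a) = 0 ↔ (N : ℤ) ∣ psi (toF l P) a) := by
    refine hT.of_T (fun a h => by rw [wa_neg, map_neg, neg_eq_zero, map_neg, dvd_neg]; exact h) fun e he => ?_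
    rw [h1, dvd_iff hp hk (hT.rt e he) (hT.pos e he), psi_apply, hPF, dvd_iff hp hk' (hT.rt e he) (hT.pos e he)]
    simp only [hfz, hf0z]
  rw [hNe] at h4
  rcases Bool.or_eq_true_iff.1 h4 with h4 | h4
  · exfalso
    refine cw_ne hp h0 w (AddMonoidHom.ext fun a => ?_)
    rw [eq_sum (cw hp φ w) a]
    refine Finset.sum_eq_zero fun i _ => ?_
    have h6 : cw hp φ w (sr i) = 0 := by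
      rw [cw_apply, hE _ (Cb.rt_sr hp i), psi_sr]
      exact zr_iff.1 (al_iff.1 h4 i (List.mem_range.2 i.2))
    rw [h6, mul_zero]
  rcases Bool.or_eq_true_iff.1 h4 with h4 | h4
  · obtain ⟨t, ht, h6⟩ := an_iff.1 h4
    have h7 := (Bool.and_eq_true_iff.1 h6).2
    refine ⟨w * wd M t.2.1, t, ht, ?_⟩
    refine hT.of_T (fun a h => by rw [map_neg, neg_eq_zero, map_neg, neg_eq_zero]; exact h) fun e he => ?_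
    rw [cw_apply, Cb.wa_mul, hE _ ((hT.rt e he).act _), ← hT.psi_fw _ hPl, hT.psi_b he, hT.psi_b he, ← zr_iff, ← ieq_iff,
      beq_iff_eq.1 (al_iff.1 h7 e he)]
  · exfalso
    obtain ⟨c', hc', h6⟩ := an_iff.1 h4
    refine hT.not_K1 hc' (fun e he h7 => ?_) p (K1_cw hp hK w)
    refine al_iff.1 h6 e (mem_fl.2 ⟨he, ?_⟩)
    rw [cw_apply, hE _ (hT.rt e he), hT.psi_b he] at h7
    exact zr_iff.2 h7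

end general

/-- patterns, words, types -/
def wtE8 : List (V × List ℕ × V) := [
  ([0, 0, 0, 0, 0, 0, 0, 1, 1], [7, 6, 5, 4, 3, 1, 2, 0, 3, 2, 4, 3, 1, 5, 4, 3, 2, 0, 6, 5, 4, 3, 1, 2, 3, 4, 5, 6], [0, 0, 0, 0, 0, 0, 1, 0]),
  ([0, 0, 0, 0, 0, 0, 1, 1, 0], [6, 5, 4, 3, 1, 2, 0, 3, 2, 4, 3, 1, 5, 4, 3, 2, 0, 7, 6, 5, 4, 3, 1, 2, 0, 3, 2, 4, 3, 1, 5, 4, 3, 2, 0, 6, 5, 4, 3, 1, 2, 3, 4, 5], [0, 0, 0, 0, 0, 1, 0, 0]),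
  ([0, 0, 0, 0, 0, 1, 0, 0, 1], [7, 6, 5, 4, 3, 1, 2, 0, 3, 2, 4, 3, 1, 5, 4, 3, 2, 0, 6, 5, 4, 3, 2, 7, 6, 5, 4, 3], [0, 0, 0, 1, 0, 0, 0, 0]),
  ([0, 0, 0, 0, 0, 1, 0, 1, 0], [6, 5, 4, 3, 1, 2, 0, 3, 2, 4, 3, 1, 7, 6, 5, 4, 3, 1, 2, 0, 3, 2, 4, 3, 1, 5, 4, 3, 2, 6, 5, 4, 3, 1, 7, 6, 5, 4, 3], [0, 0, 0, 1, 0, 0, 0, 0]),
  ([0, 0, 0, 0, 0, 1, 0, 1, 1], [4, 3, 1, 2, 0, 3, 2, 4, 3, 1, 5, 4, 3, 1, 2, 0, 3, 2, 4, 3, 1, 5, 4, 3, 2, 7, 6, 5, 4, 3, 1, 2, 0, 3, 2, 4, 3, 1, 5, 4, 3, 2, 0, 6, 5, 4, 3, 1, 2, 3, 4, 7, 6], [0, 0, 0, 0, 1, 0, 1, 0]),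
  ([0, 0, 0, 0, 0, 1, 1, 0, 0], [4, 3, 1, 2, 0, 3, 2, 4, 3, 1, 5, 4, 3, 2, 0, 6, 5, 4, 3, 1, 2, 3, 4, 5, 6, 7, 6, 5, 4, 3, 1, 2, 0, 3, 2, 4, 3, 1, 5, 4, 3, 2, 0, 6, 5, 4, 3, 1, 2, 3, 4], [0, 0, 0, 0, 1, 0, 0, 0]),
  ([0, 0, 0, 0, 0, 1, 1, 0, 1], [4, 3, 1, 2, 0, 3, 2, 4, 3, 1, 5, 4, 3, 2, 0, 6, 5, 4, 3, 1, 2, 3, 4, 5, 6, 7, 6, 5, 4, 3, 1, 2, 0, 3, 2, 4, 3, 1, 5, 4, 3, 2, 0, 6, 5, 4, 3, 1, 2, 3, 4, 5, 6], [0, 0, 0, 0, 1, 0, 1, 0]),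
  ([0, 0, 0, 0, 1, 0, 0, 1, 1], [7, 6, 5, 4, 3, 1, 2, 0, 3, 2, 4, 3, 1, 5, 4, 3, 2, 0, 6, 5, 4, 3, 1, 2, 3, 7, 6, 5], [0, 0, 0, 1, 0, 1, 0, 0]),
  ([0, 0, 0, 0, 1, 0, 1, 1, 0], [6, 5, 4, 3, 1, 2, 0, 3, 2, 4, 3, 1, 5, 4, 3, 2, 0, 7, 6, 5, 4, 3, 1, 2, 0, 3, 2, 4, 3, 1, 5, 4, 3, 2, 0, 6, 5, 4, 3, 1, 2, 3, 4, 5], [0, 0, 0, 1, 0, 1, 0, 0]),
  ([0, 0, 0, 0, 1, 1, 0, 0, 0], [3, 1, 2, 0, 3, 2, 4, 3, 1, 5, 4, 3, 2, 0, 6, 5, 4, 3, 1, 2, 3, 4, 5, 6, 7, 6, 5, 4, 3, 1, 2, 0, 3, 2, 4, 3, 1, 5, 4, 3, 2, 0, 6, 5, 4, 3, 1, 2, 3], [0, 0, 0, 1, 0, 0, 0, 0]),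
  ([0, 0, 0, 0, 1, 1, 0, 0, 1], [7, 6, 5, 4, 3, 1, 2, 0, 3, 2, 4, 3, 1, 5, 4, 3, 2, 0, 6, 5, 4, 3, 2, 7, 6, 5, 4, 3], [0, 0, 0, 1, 0, 1, 0, 0]),
  ([0, 0, 0, 0, 1, 1, 0, 1, 0], [3, 1, 2, 0, 3, 2, 6, 5, 4, 3, 1, 2, 0, 3, 2, 4, 3, 1, 7, 6, 5, 4, 3, 1, 2, 0, 3, 2, 4, 3, 1, 5, 4, 3, 2, 6, 5, 4, 3, 1, 7, 6, 5, 4, 3], [0, 0, 0, 1, 0, 1, 0, 0]),
  ([0, 0, 0, 1, 0, 0, 0, 1, 0], [6, 5, 4, 3, 1, 2, 0, 3, 2, 4, 3, 5, 4, 6, 5, 7, 6, 5, 4, 3, 1, 2, 0, 3, 2, 4, 3, 1, 5, 4, 3, 2, 6, 5, 4, 3, 1, 7, 6, 5, 4, 3], [0, 0, 0, 1, 0, 0, 0, 0]),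
  ([0, 0, 0, 1, 0, 0, 0, 1, 1], [7, 6, 5, 4, 3, 1, 2, 0, 3, 2, 4, 3, 1, 5, 4, 3, 2, 0, 6, 5, 4, 3, 1, 2, 3, 4, 7, 6], [0, 0, 0, 0, 1, 0, 1, 0]),
  ([0, 0, 0, 1, 0, 1, 0, 0, 0], [4, 3, 1, 5, 4, 3, 2, 0, 6, 5, 4, 3, 1, 2, 3, 4, 5, 6, 7, 6, 5, 4, 3, 1, 2, 0, 3, 2, 4, 3, 1, 5, 4, 3, 2, 0, 6, 5, 4, 3, 1, 2, 3], [0, 0, 0, 1, 0, 0, 0, 0]),
  ([0, 0, 0, 1, 0, 1, 0, 0, 1], [2, 0, 3, 1, 2, 3, 7, 6, 5, 4, 3, 1, 2, 0, 3, 2, 4, 3, 1, 5, 4, 3, 2, 0, 6, 5, 4, 3, 2, 7, 6, 5, 4, 3], [0, 0, 0, 1, 0, 1, 0, 0]),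
  ([0, 0, 0, 1, 0, 1, 0, 1, 0], [6, 5, 4, 3, 1, 2, 0, 3, 2, 4, 3, 1, 7, 6, 5, 4, 3, 1, 2, 0, 3, 2, 4, 3, 1, 5, 4, 3, 2, 6, 5, 4, 3, 1, 7, 6, 5, 4, 3], [0, 0, 0, 1, 0, 1, 0, 0]),
  ([0, 0, 0, 1, 1, 0, 0, 1, 0], [2, 0, 6, 5, 4, 3, 1, 2, 3, 4, 5, 6, 7, 6, 5, 4, 3, 1, 2, 0, 3, 2, 4, 3, 1, 5, 4, 3, 2, 0, 6, 5, 4, 3, 1, 2, 3, 4, 5], [0, 0, 0, 1, 0, 1, 0, 0]),
  ([0, 0, 0, 1, 1, 1, 0, 0, 0], [2, 0, 4, 3, 1, 2, 3, 4, 5, 4, 3, 1, 2, 3, 4, 6, 5, 4, 3, 1, 2, 0, 3, 2, 4, 3, 1, 7, 6, 5, 4, 3, 1, 2, 0, 3, 2, 4, 3, 1, 5, 4, 3, 2, 6, 5, 4, 3, 7, 6, 5, 4], [0, 0, 0, 0, 1, 0, 1, 0]),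
  ([0, 0, 1, 0, 0, 0, 0, 0, 1], [7, 6, 5, 4, 3, 1, 2, 0, 3, 2, 4, 3, 1, 5, 4, 3, 2, 6, 5, 4, 3, 1, 7, 6, 5, 4, 3, 2], [0, 0, 1, 0, 0, 0, 0, 0]),
  ([0, 0, 1, 0, 0, 0, 1, 0, 0], [5, 4, 3, 2, 0, 6, 5, 4, 3, 1, 2, 3, 4, 5, 6, 7, 6, 5, 4, 3, 1, 2, 0, 3, 2, 4, 3, 1, 5, 4, 3, 2, 0, 6, 5, 4, 3, 1, 2, 3, 4], [0, 0, 0, 0, 1, 0, 0, 0]),
  ([0, 0, 1, 0, 0, 0, 1, 0, 1], [5, 4, 3, 2, 0, 6, 5, 4, 3, 1, 2, 3, 4, 5, 6, 7, 6, 5, 4, 3, 1, 2, 0, 3, 2, 4, 3, 1, 5, 4, 3, 2, 0, 6, 5, 4, 3, 1, 2, 3, 4, 7, 6], [0, 0, 0, 0, 1, 0, 1, 0]),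
  ([0, 0, 1, 0, 0, 1, 0, 0, 0], [4, 3, 2, 0, 5, 4, 3, 1, 2, 3, 4, 5, 6, 5, 4, 3, 1, 2, 0, 3, 2, 4, 3, 5, 4, 7, 6, 5, 4, 3, 1, 2, 0, 3, 2, 4, 3, 1, 5, 4, 3, 2, 6, 5, 4, 3, 7, 6, 5, 4], [0, 0, 0, 0, 1, 0, 0, 0]),
  ([0, 0, 1, 0, 0, 1, 1, 0, 0], [5, 4, 3, 2, 0, 6, 5, 4, 3, 1, 2, 3, 4, 5, 6, 7, 6, 5, 4, 3, 1, 2, 0, 3, 2, 4, 3, 1, 5, 4, 3, 2, 0, 6, 5, 4, 3, 1, 2, 3, 4], [1, 0, 0, 0, 1, 0, 0, 0]),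
  ([0, 0, 1, 1, 0, 0, 0, 0, 0], [2, 0, 3, 2, 4, 3, 1, 5, 4, 3, 2, 0, 6, 5, 4, 3, 1, 2, 3, 4, 5, 6, 7, 6, 5, 4, 3, 1, 2, 0, 3, 2, 4, 3, 1, 5, 4, 3, 2, 0, 6, 5, 4, 3, 2], [0, 0, 1, 0, 0, 0, 0, 0]),
  ([0, 0, 1, 1, 0, 0, 0, 0, 1], [1, 3, 4, 5, 6, 7, 6, 5, 4, 3, 1, 2, 0, 3, 2, 4, 3, 1, 5, 4, 3, 2, 0, 6, 5, 4, 3, 1, 2, 3, 4, 7, 6], [0, 0, 0, 0, 1, 0, 1, 0]),
  ([0, 0, 1, 1, 0, 1, 0, 0, 0], [4, 3, 2, 0, 5, 4, 3, 1, 2, 3, 4, 5, 6, 5, 4, 3, 1, 2, 0, 3, 2, 4, 3, 5, 4, 7, 6, 5, 4, 3, 1, 2, 0, 3, 2, 4, 3, 1, 5, 4, 3, 2, 6, 5, 4, 3, 7, 6, 5, 4], [0, 0, 0, 0, 1, 0, 1, 0]),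
  ([0, 1, 0, 0, 0, 0, 0, 1, 0], [6, 5, 4, 3, 1, 2, 3, 4, 5, 6, 7, 6, 5, 4, 3, 1, 2, 0, 3, 2, 4, 3, 1, 5, 4, 3, 2, 0, 6, 5, 4, 3, 1, 2, 3, 4, 5], [0, 0, 0, 0, 0, 1, 0, 0]),
  ([0, 1, 0, 0, 0, 0, 1, 1, 0], [6, 5, 4, 3, 1, 2, 3, 4, 5, 6, 7, 6, 5, 4, 3, 1, 2, 0, 3, 2, 4, 3, 1, 5, 4, 3, 2, 0, 6, 5, 4, 3, 1, 2, 3, 4, 5], [1, 0, 0, 0, 0, 1, 0, 0]),
  ([0, 1, 0, 0, 0, 1, 0, 0, 0], [4, 3, 1, 2, 3, 4, 5, 4, 3, 1, 2, 3, 4, 6, 5, 4, 3, 1, 2, 0, 3, 2, 4, 3, 1, 7, 6, 5, 4, 3, 1, 2, 0, 3, 2, 4, 3, 1, 5, 4, 3, 2, 6, 5, 4, 3, 7, 6, 5, 4], [0, 0, 0, 0, 1, 0, 0, 0]),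
  ([0, 1, 0, 0, 0, 1, 1, 0, 0], [0, 2, 3, 1, 5, 4, 3, 2, 0, 6, 5, 4, 3, 1, 2, 3, 4, 5, 6, 7, 6, 5, 4, 3, 1, 2, 0, 3, 2, 4, 3, 1, 5, 4, 3, 2, 0, 6, 5, 4, 3, 1, 2, 3, 4], [1, 0, 0, 0, 1, 0, 0, 0]),
  ([0, 1, 0, 0, 1, 0, 0, 1, 0], [6, 5, 4, 3, 1, 2, 3, 4, 5, 6, 7, 6, 5, 4, 3, 1, 2, 0, 3, 2, 4, 3, 1, 5, 4, 3, 2, 0, 6, 5, 4, 3, 1, 2, 3, 4, 5], [0, 0, 0, 1, 0, 1, 0, 0]),
  ([0, 1, 0, 0, 1, 1, 0, 0, 0], [4, 3, 1, 2, 3, 4, 5, 4, 3, 1, 2, 3, 4, 6, 5, 4, 3, 1, 2, 0, 3, 2, 4, 3, 1, 7, 6, 5, 4, 3, 1, 2, 0, 3, 2, 4, 3, 1, 5, 4, 3, 2, 6, 5, 4, 3, 7, 6, 5, 4], [0, 0, 0, 0, 1, 0, 1, 0]),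
  ([0, 1, 1, 0, 0, 0, 0, 0, 0], [1, 3, 2, 4, 3, 1, 5, 4, 3, 2, 0, 6, 5, 4, 3, 1, 2, 3, 4, 5, 6, 7, 6, 5, 4, 3, 1, 2, 0, 3, 2, 4, 3, 1, 5, 4, 3, 2, 6, 5, 4, 3, 1], [0, 1, 0, 0, 0, 0, 0, 0]),
  ([0, 1, 1, 0, 0, 0, 1, 0, 0], [0, 2, 3, 4, 5, 4, 3, 2, 0, 6, 5, 4, 3, 1, 2, 3, 4, 5, 6, 7, 6, 5, 4, 3, 1, 2, 0, 3, 2, 4, 3, 1, 5, 4, 3, 2, 0, 6, 5, 4, 3, 1, 2, 3, 4], [1, 0, 0, 0, 1, 0, 0, 0]),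
  ([1, 0, 0, 0, 0, 0, 0, 1, 0], [], [0, 0, 0, 0, 0, 0, 1, 0]),
  ([1, 0, 0, 0, 0, 0, 1, 0, 0], [], [0, 0, 0, 0, 0, 1, 0, 0]),
  ([1, 0, 0, 0, 0, 1, 0, 0, 0], [], [0, 0, 0, 0, 1, 0, 0, 0]),
  ([1, 0, 0, 0, 0, 1, 0, 1, 0], [], [0, 0, 0, 0, 1, 0, 1, 0]),
  ([1, 0, 0, 0, 1, 0, 0, 0, 0], [], [0, 0, 0, 1, 0, 0, 0, 0]),
  ([1, 0, 0, 0, 1, 0, 0, 1, 0], [6, 5, 4, 7, 6, 5], [0, 0, 0, 1, 0, 1, 0, 0]),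
  ([1, 0, 0, 0, 1, 0, 1, 0, 0], [], [0, 0, 0, 1, 0, 1, 0, 0]),
  ([1, 0, 0, 1, 0, 0, 0, 0, 0], [], [0, 0, 1, 0, 0, 0, 0, 0]),
  ([1, 0, 0, 1, 0, 0, 0, 1, 0], [2, 0, 3, 1, 2, 3, 4, 3, 1, 2, 0, 3, 2, 5, 4, 3, 1, 2, 0, 3, 2, 4, 3, 5, 4], [0, 0, 0, 0, 1, 0, 1, 0]),
  ([1, 0, 0, 1, 1, 0, 0, 0, 0], [3, 1, 4, 3, 2, 0, 5, 4, 3, 1, 2, 3, 6, 5, 4, 3, 1, 2, 0, 3, 2, 7, 6, 5, 4, 3, 1, 2, 0, 3, 2, 4, 3, 5, 4], [0, 0, 0, 0, 1, 0, 1, 0]),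
  ([1, 0, 1, 0, 0, 0, 0, 0, 0], [], [0, 1, 0, 0, 0, 0, 0, 0]),
  ([1, 0, 1, 0, 0, 1, 0, 0, 0], [1, 3, 2, 0], [1, 0, 0, 0, 1, 0, 0, 0]),
  ([1, 1, 0, 0, 0, 0, 0, 0, 0], [], [1, 0, 0, 0, 0, 0, 0, 0]),
  ([1, 1, 0, 0, 0, 0, 1, 0, 0], [], [1, 0, 0, 0, 0, 1, 0, 0]),
  ([1, 1, 0, 0, 0, 1, 0, 0, 0], [], [1, 0, 0, 0, 1, 0, 0, 0]),
  ([1, 1, 0, 0, 1, 0, 0, 0, 0], [0, 2, 3, 1, 4, 3, 2, 0, 5, 4, 3, 1, 2, 3, 6, 5, 4, 3, 1, 2, 0, 3, 2, 7, 6, 5, 4, 3, 1, 2, 0, 3, 2, 4, 3, 5, 4], [0, 0, 0, 0, 1, 0, 1, 0])]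

theorem tyE8 : al (fun P => tchk5 8 dE8 wtE8 0 P && tchk5 8 dE8 wtE8 1 P) (pats [0, 1] 8) = true := by
  decide +kernel

theorem tyE8' : ∀ t ∈ wtE8, t.2.2 ∈ ([uv 8 0, uv 8 1, uv 8 2, uv 8 3, uv 8 4, uv 8 5, uv 8 6, [0, 0, 0, 0, 1, 0, 1, 0],
    [0, 0, 0, 1, 0, 1, 0, 0], [1, 0, 0, 0, 1, 0, 0, 0], [1, 0, 0, 0, 0, 1, 0, 0]] : List V) := by
  decide +kernel

/-- the values at two of the characteristic polynomials of the candidates divide `K` -/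
noncomputable def chk2 (i j : ℕ) (RR : List (ℤ × ℤ)) (K : ℤ) : Bool :=
  rrOK dE8 i j RR &&
    al (fun p => al (fun q => !cand dE8 i j RR p q || zr (N2 (p.1 + q.2) (p.1 * q.2 - p.2 * q.1)) K) RR) RR

theorem not_one {r : ℕ} (hr' : r.Prime) (h7 : 7 ≤ r) {φ : Lat 8 →+ ZMod r} {w : W8} (he : Eg w φ 2) (j : Fin 8)
    (hx : Exa tE8 φ (uv 8 j)) : False := by
  have := Fact.mk hr'
  rcases (hx.ex1 (toF_uv j)).res (repAut _ tE8.isCartan w) (rt_wa tE8 w) he with h1 | h1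
  · exact un6 hr' (by omega) (n := 1) (by norm_num) (by push_cast; linear_combination h1.1)
  · exact un6 hr' (by omega) (n := 3) (by norm_num) (by push_cast; linear_combination h1.1)

theorem dvd_two {r : ℕ} (hr' : r.Prime) {φ : Lat 8 →+ ZMod r} {w : W8} (he : Eg w φ 2) {i j : Fin 8} (hij : i ≠ j)
    {RR : List (ℤ × ℤ)} {K : ℕ} (hc : chk2 i j RR K = true) (hx : Ex2 tE8 φ i j) : r ∣ K := by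
  have := Fact.mk hr'
  obtain ⟨h1, h2⟩ := Bool.and_eq_true_iff.1 hc
  obtain ⟨p, hp', q, hq, h3, -, h5, h6⟩ := tabE8.res2 (tabE8.rrok hij h1) hx (repAut _ tE8.isCartan w) (rt_wa tE8 w) he
  have h7 := al_iff.1 (al_iff.1 h2 p hp') q hq
  rw [h3, Bool.not_true, Bool.false_or] at h7
  have h8 : ((N2 (p.1 + q.2) (p.1 * q.2 - p.2 * q.1) : ℤ) : ZMod r) = 0 :=
    hN2 _ _ (by push_cast; exact charpoly hx.ne1 h5 h6)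
  rw [ZMod.intCast_zmod_eq_zero_iff_dvd] at h8
  exact Int.natCast_dvd_natCast.1 (h8.trans (zr_iff.1 h7))

theorem not_dvd45 {r : ℕ} (hr' : r.Prime) (h7 : 7 ≤ r) : ¬ r ∣ 45 := fun h => by
  rw [show 45 = 3 * 3 * 5 from rfl] at h
  rcases (Nat.Prime.dvd_mul hr').1 h with h | h
  · rcases (Nat.Prime.dvd_mul hr').1 h with h | h <;>
    · have := Nat.le_of_dvd (by norm_num) h; omega
  · have := Nat.le_of_dvd (by norm_num) h; omega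

theorem eq_seven {r : ℕ} (hr' : r.Prime) (h7 : 7 ≤ r) (h : r ∣ 63) : r = 7 := by
  rw [show 63 = 3 * 3 * 7 from rfl] at h
  rcases (Nat.Prime.dvd_mul hr').1 h with h | h
  · rcases (Nat.Prime.dvd_mul hr').1 h with h | h <;>
    · have := Nat.le_of_dvd (by norm_num) h; omega
  · have := Nat.le_of_dvd (by norm_num) h; omega

/-- the restricted roots of the type `D₄ A₂` -/
def R05 : List (ℤ × ℤ) := [(-2, -4), (-2, -3), (-2, -2), (-1, -3), (-1, -2), (-1, -1), (-1, 0), (0, -2), (0, -1), (0, 1), (0, 2),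
  (1, 0), (1, 1), (1, 2), (1, 3), (2, 2), (2, 3), (2, 4)]

theorem c05 : chk2 0 5 R05 63 = true := by decide +kernel

theorem c46 : chk2 4 6 [(-5, -3), (-5, -2), (-4, -2), (-3, -2), (-3, -1), (-2, -2), (-2, -1), (-2, 0), (-1, -1), (-1, 0), (0, -1),
    (0, 1), (1, 0), (1, 1), (2, 0), (2, 1), (2, 2), (3, 1), (3, 2), (4, 2), (5, 2), (5, 3)] 45 = true := by decide +kernel

theorem c35 : chk2 3 5 [(-6, -4), (-6, -3), (-5, -3), (-4, -3), (-4, -2), (-3, -3), (-3, -2), (-3, -1), (-2, -2), (-2, -1),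
    (-2, 0), (-1, -1), (-1, 0), (0, -1), (0, 1), (1, 0), (1, 1), (2, 0), (2, 1), (2, 2), (3, 1), (3, 2), (3, 3), (4, 2), (4, 3),
    (5, 3), (6, 3), (6, 4)] 45 = true := by decide +kernel

theorem c04 : chk2 0 4 [(-2, -5), (-2, -4), (-2, -3), (-1, -4), (-1, -3), (-1, -2), (-1, -1), (-1, 0), (0, -2), (0, -1), (0, 1),
    (0, 2), (1, 0), (1, 1), (1, 2), (1, 3), (1, 4), (2, 3), (2, 4), (2, 5)] 45 = true := by decide +kernel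

/-- the regular points modulo seven and the words to the standard point -/
def w7 : List (ℤ × ℤ × List ℕ) := [
  (1, 1, []),
  (1, 5, [5, 4, 3, 2, 1, 3, 4, 5, 6, 0, 2, 3, 4, 5, 1, 3, 4, 2, 3, 0, 2, 1, 3, 4, 5, 6, 7, 6, 5, 4, 3, 2, 1, 3, 4, 5, 6, 0, 2, 3, 4, 5, 1, 3, 4, 2, 3, 0, 2, 1, 3, 4, 5, 6, 7, 5, 4, 3, 2, 1, 3, 4, 5, 6, 0, 2, 3, 4, 5, 1, 3, 4, 2, 3, 0, 2, 1, 3, 4, 5, 6, 0, 2, 3, 4, 5, 1, 3, 4, 2, 3, 0, 2, 1, 3, 4, 5]),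
  (2, 2, [0, 2, 3, 4, 5, 1, 3, 4, 2, 3, 0, 2, 1, 3, 4, 5, 6, 7, 5, 4, 3, 2, 1, 3, 4, 5, 6, 0, 2, 3, 4, 5, 1, 3, 4, 2, 3, 0, 2, 1, 3, 4, 5, 6, 7, 0, 2, 3, 4, 5, 1, 3, 4, 2, 3, 0, 2, 1, 3, 4, 5, 6, 5, 4, 3, 2, 1, 3, 4, 5]),
  (2, 3, [0, 2, 3, 4, 5, 1, 3, 4, 2, 3, 0, 2, 1, 3, 4, 5, 6, 7, 5, 4, 3, 2, 1, 3, 4, 5, 6, 5, 4, 3, 2, 1, 3, 4, 5, 0, 2, 3, 4, 1, 3, 2, 0]),
  (3, 1, [0, 2, 3, 4, 5, 1, 3, 4, 2, 3, 0, 2, 1, 3, 4, 5, 6, 7, 5, 4, 3, 2, 1, 3, 4, 5, 6, 0, 2, 3, 4, 5, 1, 3, 4, 2, 3, 0, 2, 1, 3, 4, 5, 6, 7, 0, 2, 3, 4, 5, 1, 3, 4, 2, 3, 0, 2, 1, 3, 4, 5, 6, 5, 4, 3, 2, 1, 3, 4, 5, 0, 2, 3, 4, 1, 3, 2, 0]),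
  (3, 3, [0, 2, 3, 4, 5, 1, 3, 4, 2, 3, 0, 2, 1, 3, 4, 5, 6, 7, 5, 4, 3, 2, 1, 3, 4, 5, 6, 5, 4, 3, 2, 1, 3, 4, 5]),
  (4, 4, [5, 4, 3, 2, 1, 3, 4, 5, 6, 7, 5, 4, 3, 2, 1, 3, 4, 5, 6, 0, 2, 3, 4, 5, 1, 3, 4, 2, 3, 0, 2, 1, 3, 4, 5, 6, 7, 0, 2, 3, 4, 5, 1, 3, 4, 2, 3, 0, 2, 1, 3, 4, 5, 6, 5, 4, 3, 2, 1, 3, 4, 5, 0, 2, 3, 4, 1, 3, 2, 0]),
  (4, 6, [5, 4, 3, 2, 1, 3, 4, 5, 6, 7, 5, 4, 3, 2, 1, 3, 4, 5, 6, 5, 4, 3, 2, 1, 3, 4, 5]),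
  (5, 4, [5, 4, 3, 2, 1, 3, 4, 5, 6, 7, 5, 4, 3, 2, 1, 3, 4, 5, 6, 0, 2, 3, 4, 5, 1, 3, 4, 2, 3, 0, 2, 1, 3, 4, 5, 6, 7, 0, 2, 3, 4, 5, 1, 3, 4, 2, 3, 0, 2, 1, 3, 4, 5, 6, 5, 4, 3, 2, 1, 3, 4, 5]),
  (5, 5, [5, 4, 3, 2, 1, 3, 4, 5, 6, 7, 5, 4, 3, 2, 1, 3, 4, 5, 6, 5, 4, 3, 2, 1, 3, 4, 5, 0, 2, 3, 4, 1, 3, 2, 0]),
  (6, 2, [0, 2, 3, 4, 1, 3, 2, 0]),
  (6, 6, [5, 4, 3, 2, 1, 3, 4, 5, 6, 0, 2, 3, 4, 5, 1, 3, 4, 2, 3, 0, 2, 1, 3, 4, 5, 6, 7, 6, 5, 4, 3, 2, 1, 3, 4, 5, 6, 0, 2, 3, 4, 5, 1, 3, 4, 2, 3, 0, 2, 1, 3, 4, 5, 6, 7, 5, 4, 3, 2, 1, 3, 4, 5, 6, 0, 2, 3, 4, 5, 1, 3, 4, 2, 3, 0, 2, 1, 3, 4, 5, 6, 0, 2, 3, 4, 5, 1, 3, 4, 2, 3, 0, 2, 1, 3, 4, 5, 0, 2, 3, 4, 1, 3, 2, 0])]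

theorem c7 : al (fun s => al (fun t => an (fun ρ => zr 7 (ρ.1 * s + ρ.2 * t)) R05 ||
    an (fun x => ieq x.1 s && (ieq x.2.1 t && al (fun i => zr 7 (gt (fw dE8.C x.2.2 [s, 0, 0, 0, 0, t, 0, 0]) i -
      gt [1, 0, 0, 0, 0, 1, 0, 0] i)) (List.range 8))) w7) [0, 1, 2, 3, 4, 5, 6]) [0, 1, 2, 3, 4, 5, 6] = true := by
  decide +kernel

theorem psi05 (s t : ℤ) (a : Lat 8) : psi (toF 8 [s, 0, 0, 0, 0, t, 0, 0]) a = a 0 * s + a 5 * t := by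
  rw [psi_apply, Fin.sum_univ_eight]
  show a 0 * s + a 1 * 0 + a 2 * 0 + a 3 * 0 + a 4 * 0 + a 5 * t + a 6 * 0 + a 7 * 0 = _
  ring

theorem val_mem (x : ZMod 7) : (x.val : ℤ) ∈ ([0, 1, 2, 3, 4, 5, 6] : List ℤ) := by
  revert x
  decide

/-- **The characters modulo seven of type `D₄ A₂` are standard.** -/
theorem std_of_ex2 {φ : Lat 8 →+ ZMod 7} (hx : Ex2 tE8 φ 0 5) : Std φ := by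
  have R : RROK tE8 0 5 R05 := tabE8.rrok (by decide) (Bool.and_eq_true_iff.1 c05).1
  set s : ℤ := ((φ (sr 0)).val : ℤ) with hs
  set t : ℤ := ((φ (sr 5)).val : ℤ) with ht
  have es : (s : ZMod 7) = φ (sr 0) := by rw [hs, Int.cast_natCast, ZMod.natCast_zmod_val]
  have et : (t : ZMod 7) = φ (sr 5) := by rw [ht, Int.cast_natCast, ZMod.natCast_zmod_val]
  have e : ∀ a, φ a = ((psi (toF 8 [s, 0, 0, 0, 0, t, 0, 0]) a : ℤ) : ZMod 7) := fun a => by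
    rw [psi05, hx.eq (by decide) a, Int.cast_add, Int.cast_mul, Int.cast_mul, es, et]
  rcases Bool.or_eq_true_iff.1 (al_iff.1 (al_iff.1 c7 s (val_mem _)) t (val_mem _)) with h | h
  · obtain ⟨ρ, hρ, h1⟩ := an_iff.1 h
    refine absurd ?_ (R.ne_zero hx hρ)
    have h2 := (ZMod.intCast_zmod_eq_zero_iff_dvd _ 7).2 (zr_iff.1 h1)
    rwa [Int.cast_add, Int.cast_mul, Int.cast_mul, es, et] at h2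
  · obtain ⟨x, -, h1⟩ := an_iff.1 h
    have h2 := al_iff.1 (Bool.and_eq_true_iff.1 (Bool.and_eq_true_iff.1 h1).2).2
    refine ⟨wd _ x.2.2, fun a => ?_⟩
    have h3 : a 0 + a 5 = psi (toF 8 [1, 0, 0, 0, 0, 1, 0, 0]) a := by rw [psi05, mul_one, mul_one]
    rw [e, ← tabE8.psi_fw _ rfl, h3, ZMod.intCast_eq_intCast_iff_dvd_sub, psi_apply, psi_apply, ← Finset.sum_sub_distrib]
    refine Finset.dvd_sum fun i _ => ?_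
    rw [← mul_sub]
    exact Dvd.dvd.mul_left (dvd_sub_comm.1 (zr_iff.1 (h2 i (List.mem_range.2 i.2)))) _

theorem std_of_cw {r : ℕ} {φ : Lat 8 →+ ZMod r} {w : W8} (h : Std (cw tE8 φ w)) : Std φ := by
  obtain ⟨v, hv⟩ := h
  exact ⟨w * v, fun a => by rw [Cb.wa_mul, ← hv a, cw_apply]⟩

/-- **[NF]** -/
theorem boxNF : BoxNF := by
  intro r hr' h7 φ w h0 hK he
  have := Fact.mk hr'
  have hp : ∀ m : ℕ, 2 ≤ m → m ≤ 5 → ¬ (m : ℤ) ∣ r := by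
    intro m h1 h2 h3
    rcases (Nat.dvd_prime hr').1 (Int.natCast_dvd_natCast.1 h3) with h4 | h4 <;> omega
  obtain ⟨u, t, ht, hx⟩ := types30 tabE8 tyE8 hr'.pos (hp 2 le_rfl (by norm_num)) (hp 3 (by norm_num) (by norm_num))
    (hp 5 (by norm_num) le_rfl) h0 hK
  have he' : Eg (u⁻¹ * w * u) (cw tE8 φ u) 2 := Eig.conj (hp := tE8) he u
  have h1 := tyE8' t ht
  simp only [List.mem_cons, List.not_mem_nil, or_false] at h1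
  rcases h1 with h1 | h1 | h1 | h1 | h1 | h1 | h1 | h1 | h1 | h1 | h1 <;> rw [h1] at hx
  · exact (not_one hr' h7 he' 0 hx).elim
  · exact (not_one hr' h7 he' 1 hx).elim
  · exact (not_one hr' h7 he' 2 hx).elim
  · exact (not_one hr' h7 he' 3 hx).elim
  · exact (not_one hr' h7 he' 4 hx).elim
  · exact (not_one hr' h7 he' 5 hx).elim
  · exact (not_one hr' h7 he' 6 hx).elim
  · exact (not_dvd45 hr' h7 (dvd_two hr' he' (i := 4) (j := 6) (by decide) c46 (hx.ex2 (by decide +kernel)))).elim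
  · exact (not_dvd45 hr' h7 (dvd_two hr' he' (i := 3) (j := 5) (by decide) c35 (hx.ex2 (by decide +kernel)))).elim
  · exact (not_dvd45 hr' h7 (dvd_two hr' he' (i := 0) (j := 4) (by decide) c04 (hx.ex2 (by decide +kernel)))).elim
  have h2 : Ex2 tE8 (cw tE8 φ u) 0 5 := hx.ex2 (by decide +kernel)
  obtain rfl := eq_seven hr' h7 (dvd_two hr' he' (i := 0) (j := 5) (by decide) c05 h2)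
  exact ⟨rfl, std_of_cw (std_of_ex2 h2)⟩

end Cfsg.Agent.Cam.Q2.NF
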