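import Cfsg.Agent.Cam.Q2.Iface
import Cfsg.Agent.E82.F5.Row44
import Cfsg.Agent.E82.F5.Frame

/-!
# S3690, the group `E₈(2)`: the classes of `A₆ × A₆` (helper79)
-/

set_option autoImplicit false
set_option linter.unusedVariables false
set_option maxRecDepth 100000
set_option maxHeartbeats 400000

namespace Cfsg.Agent.Cam.Q2.Num

open Cfsg Subgroup Equiv Equiv.Perm
open Cfsg.Agent.H939.L64 (E2)
open Cfsg.Agent.E82 (cf qe par fd5 fd_conj)
open Cfsg.Agent.E82.F5 (c2 A5 x5 w5 ty48 dimE c2_le v5b frame cf_isConj c2_comm inv_w w_sq x5_pow)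
open Cfsg.Agent.E82.Fr (Quad)
open Cfsg.Agent.Lib.VonDyck (a5 b5 exists_hom_alternatingFive)

/-! ### `A₆` -/

/-- an even permutation -/
def el (p : Perm (Fin 6)) (h : sign p = 1 := by decide +kernel) : A6 := ⟨p, mem_alternatingGroup.2 h⟩

/-- `(0 2 4)` -/
def h1 : A6 := el (swap 0 2 * swap 2 4)
/-- `(1 3 5)` -/
def h2 : A6 := el (swap 1 3 * swap 3 5)
/-- `(0 2 4) (1 3 5)` -/
def k1 : A6 := h1 * h2
/-- `(0 2 4) (1 5 3)` -/
def k2 : A6 := h1 * h2⁻¹
/-- `(0 1) (2 3)` -/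
def a1 : A6 := el (swap 0 1 * swap 2 3)
/-- `(0 2) (3 5)` -/
def a2 : A6 := el (swap 0 2 * swap 3 5)
/-- a conjugate of `k1` -/
def b2 : A6 := el (swap 0 5 * swap 1 2 * swap 2 4 * swap 3 5)
/-- conjugating elements -/
def cA : A6 := el (swap 0 1 * swap 2 3 * swap 3 4 * swap 4 5)
/-- conjugating elements -/
def cB : A6 := el (swap 2 4 * swap 3 5)
/-- conjugating elements -/
def cC : A6 := el (swap 0 1 * swap 2 5 * swap 3 5 * swap 4 5)
/-- conjugating elements -/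
def cD : A6 := el (swap 0 1 * swap 3 5)

theorem cj {x y : A6} (c : A6) (h : c * x * c⁻¹ = y := by decide +kernel) : IsConj x y := isConj_iff.2 ⟨c, h⟩

theorem h1_pow : h1 ^ 3 = 1 := by decide +kernel
theorem h2_pow : h2 ^ 3 = 1 := by decide +kernel
theorem k1_pow : k1 ^ 3 = 1 := by decide +kernel
theorem k2_pow : k2 ^ 3 = 1 := by decide +kernel
theorem h1_ne : h1 ≠ 1 := by decide +kernel
theorem k1_ne : k1 ≠ 1 := by decide +kernel
theorem h12 : Commute h1 h2 := by unfold Commute SemiconjBy; decide +kernel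
theorem k12 : Commute k1 k2 := by unfold Commute SemiconjBy; decide +kernel

theorem conj_of {x g : A6} (h : IsConj (x : Perm (Fin 6)) g) {s : Perm (Fin 6)} (hs : sign s = -1)
    (hx : s * x * s⁻¹ = x) : IsConj x g := by
  obtain ⟨c, hc⟩ := isConj_iff.1 h
  rcases Int.units_eq_one_or (sign c) with h1 | h1
  · exact isConj_iff.2 ⟨⟨c, mem_alternatingGroup.2 h1⟩, Subtype.ext hc⟩
  · refine isConj_iff.2 ⟨⟨c * s, mem_alternatingGroup.2 (by rw [map_mul, h1, hs]; rfl)⟩, Subtype.ext ?_⟩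
    show c * s * x * (c * s)⁻¹ = g
    rw [← hc]
    conv_rhs => rw [← hx]
    group

theorem ct3 {g : Perm (Fin 6)} (h : g ^ 3 = 1) (h1 : g ≠ 1) : g.cycleType = {3} ∨ g.cycleType = {3, 3} := by
  have : Fact (Nat.Prime 3) := ⟨Nat.prime_three⟩
  obtain ⟨n, hn⟩ := cycleType_prime_order (σ := g) (by rw [orderOf_eq_prime h h1]; exact Nat.prime_three)
  rw [orderOf_eq_prime h h1] at hn
  have h2 := g.support.card_le_univ
  rw [← sum_cycleType, hn, Multiset.sum_replicate, smul_eq_mul, Fintype.card_fin] at h2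
  rw [hn]
  rcases (by omega : n = 0 ∨ n = 1) with rfl | rfl
  exacts [Or.inl rfl, Or.inr rfl]

theorem ct_of {g : Perm (Fin 6)} (h : g ^ 3 = 1) (h1 : g ≠ 1) :
    (g.support.card = 3 → g.cycleType = {3}) ∧ (g.support.card = 6 → g.cycleType = {3, 3}) := by
  rw [← sum_cycleType]
  rcases ct3 h h1 with h2 | h2 <;> rw [h2] <;> simp

theorem coe3 {g : A6} (h : g ^ 3 = 1) : (g : Perm (Fin 6)) ^ 3 = 1 := congrArg Subtype.val h

theorem coe_ne {g : A6} (h : g ≠ 1) : (g : Perm (Fin 6)) ≠ 1 := fun e => h (Subtype.ext e)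

/-- the two classes of elements of order three -/
theorem cls3 {g : A6} (h : g ^ 3 = 1) (hg : g ≠ 1) : IsConj h1 g ∨ IsConj k1 g := by
  have e1 := (ct_of (coe3 h1_pow) (coe_ne h1_ne)).1 (by decide +kernel)
  have e2 := (ct_of (coe3 k1_pow) (coe_ne k1_ne)).2 (by decide +kernel)
  rcases ct3 (coe3 h) (coe_ne hg) with h2 | h2
  · exact Or.inl (conj_of (isConj_of_cycleType_eq (e1.trans h2.symm)) (s := swap 1 3) (by decide +kernel)
      (by decide +kernel))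
  · exact Or.inr (conj_of (isConj_of_cycleType_eq (e2.trans h2.symm)) (s := swap 0 1 * swap 2 3 * swap 4 5)
      (by decide +kernel) (by decide +kernel))

theorem exists_phi : ∃ φ φ' : A5 →* A6, φ' x5 = φ x5 ∧ φ x5 ≠ 1 ∧ φ b5 = h1 ∧ IsConj k1 (φ' b5) := by
  obtain ⟨φ, e1, e2⟩ := exists_hom_alternatingFive (a := a1) (b := h1) (by decide +kernel) h1_pow (by decide +kernel)
  obtain ⟨φ', e3, e4⟩ := exists_hom_alternatingFive (a := a2) (b := b2) (by decide +kernel) (by decide +kernel)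
    (by decide +kernel)
  refine ⟨φ, φ', ?_, ?_, e2, e4 ▸ cj cD⟩
  · rw [x5, map_mul, map_mul, e1, e2, e3, e4]
    decide +kernel
  · rw [x5, map_mul, e1, e2]
    decide +kernel

/-! ### the classes in `E₈(2)` -/

theorem pw {G H : Type} [Group G] [Group H] (f : G →* H) {g : G} {n : ℕ} (h : g ^ n = 1) : f g ^ n = 1 := by
  rw [← map_pow, h, map_one]

/-- the quadratic form on the two classes -/
theorem q_k (ρ : A6 →* E2) : qe (cf (ρ k1)) = 2 * qe (cf (ρ h1)) := by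
  have h := par (pw ρ h1_pow) (pw ρ h2_pow) (h12.map ρ)
  rw [← map_inv, ← map_mul, ← map_mul, ← cf_isConj (cj cA : IsConj h1 h2) ρ,
    show h1 * h2⁻¹ = k2 from rfl, show h1 * h2 = k1 from rfl, ← cf_isConj (cj cC : IsConj k1 k2) ρ] at h
  revert h
  generalize qe (cf (ρ k1)) = x
  generalize qe (cf (ρ h1)) = y
  revert x y
  decide

variable {α β : A6 →* E2} (c : C2 α β)

include c

theorem cm (u v : A6) : Commute (α u) (β v) := c.ab u v

omit c in
theorem mixG {G H : Type} [Group G] [Group H] {α β : G →* H} (ab : ∀ u v, α u * β v = β v * α u) (g g' m : G) :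
    α (g * m * g⁻¹) * β (g' * m * g'⁻¹) = α g * β g' * (α m * β m) * (α g * β g')⁻¹ := by
  have e2 : (α g)⁻¹ * (β g' * β m * (β g')⁻¹) = β g' * β m * (β g')⁻¹ * (α g)⁻¹ := by
    rw [← map_inv, ← map_inv, ← map_mul, ← map_mul]
    exact ab _ _
  rw [map_mul, map_mul, map_mul, map_mul, map_inv, map_inv]
  calc α g * α m * (α g)⁻¹ * (β g' * β m * (β g')⁻¹) = α g * (α m * ((α g)⁻¹ * (β g' * β m * (β g')⁻¹))) := by group
    _ = α g * (α m * β g' * β m * (β g')⁻¹ * (α g)⁻¹) := by rw [e2]; group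
    _ = _ := by rw [ab m g']; group

theorem mix {m x y : A6} (hx : IsConj m x) (hy : IsConj m y) : cf (α x * β y) = cf (α m * β m) := by
  obtain ⟨g, rfl⟩ := isConj_iff.1 hx
  obtain ⟨g', rfl⟩ := isConj_iff.1 hy
  exact (congrArg cf (mixG c.ab g g' m)).trans (fd_conj _ _)

theorem idx {h : A6} (h3 : h ^ 3 = 1) (hr : IsConj h h⁻¹) : qe (cf (α h * β h)) = qe (cf (α h)) + qe (cf (β h)) := by
  have h1 := par (pw α h3) (pw β h3) (cm c h h)
  rw [← map_inv, mix c (IsConj.refl h) hr] at h1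
  revert h1
  generalize qe (cf (α h * β h)) = x
  generalize qe (cf (α h)) + qe (cf (β h)) = y
  revert x y
  decide

theorem ord5 {u : A6} (h : u ^ 5 = 1) (h1 : u ≠ 1) : cf (α u) = 48 ∧ cf (α u * β u) = 48 := by
  have : Fact (Nat.Prime 5) := ⟨Nat.prime_five⟩
  have h2 := orderOf_eq_prime h h1
  obtain ⟨ψ, hψ⟩ := c.cmp
  refine ⟨c.five u h2, ?_⟩
  have h3 := hψ (ψ.symm u)
  rw [ψ.apply_symm_apply] at h3
  rw [← h3]
  exact c.five _ ((ψ.symm.orderOf_eq u).trans h2)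

theorem ane {u : A6} (h : u ≠ 1) : α u ≠ 1 := fun e => h (c.ainj (e.trans (map_one α).symm))

theorem bne {u : A6} (h : u ≠ 1) : β u ≠ 1 := fun e => h (c.binj (e.trans (map_one β).symm))

theorem tyb {u h : A6} (hu : u ^ 5 = 1) (u1 : u ≠ 1) (h3 : h ^ 3 = 1) (hn : h ≠ 1) :
    (c2 (β h) (α u) = 16 ∧ cf (β h) = 80) ∨ (c2 (β h) (α u) = 20 ∧ cf (β h) = 92) :=
  ty48 (pw β h3) (pw α hu) (cm c u h).symm (bne c hn) (ane c u1) (ord5 c hu u1).1

/-- the automorphism interchanges the two classes -/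
theorem swp {u : A6} (hu : u ^ 5 = 1) (u1 : u ≠ 1) : cf (α h1 * β h1) = cf (α k1) ∧ cf (α k1 * β k1) = cf (α h1) := by
  obtain ⟨ψ, hψ⟩ := c.cmp
  have h0 : ∀ h : A6, h ^ 3 = 1 → h ≠ 1 → IsConj h h⁻¹ → ¬ IsConj h (ψ h) := fun h h3 hn hr hc => by
    have e1 := idx c h3 hr
    rw [← mix c hc hc, ← hψ, left_eq_add] at e1
    rcases tyb c hu u1 h3 hn with e2 | e2 <;> rw [e2.2] at e1 <;> exact absurd e1 (by decide)
  have h3 : ∀ h : A6, h ^ 3 = 1 → h ≠ 1 → IsConj h1 (ψ h) ∨ IsConj k1 (ψ h) := fun h h3 hn =>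
    cls3 (by rw [← map_pow, h3, map_one]) fun e => hn (ψ.injective (e.trans (map_one ψ).symm))
  have e1 := (h3 h1 h1_pow h1_ne).resolve_left (h0 h1 h1_pow h1_ne (cj cB))
  have e2 := (h3 k1 k1_pow k1_ne).resolve_right (h0 k1 k1_pow k1_ne (cj cB))
  exact ⟨by rw [← mix c e2 e2, hψ], by rw [← mix c e1 e1, hψ]⟩

theorem two_cls {u : A6} (hu : u ^ 5 = 1) (u1 : u ≠ 1) :
    (cf (β h1) = 80 ∧ cf (β k1) = 92) ∨ (cf (β h1) = 92 ∧ cf (β k1) = 80) := by
  have e := q_k β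
  rcases tyb c hu u1 h1_pow h1_ne with e1 | e1 <;> rcases tyb c hu u1 k1_pow k1_ne with e2 | e2
  · rw [e1.2, e2.2] at e; exact absurd e (by decide)
  · exact Or.inl ⟨e1.2, e2.2⟩
  · exact Or.inr ⟨e1.2, e2.2⟩
  · rw [e1.2, e2.2] at e; exact absurd e (by decide)

theorem le16 (φ : A5 →* A6) (u1 : φ x5 ≠ 1) (h : cf (β (φ b5)) = 80) : c2 (β (φ x5)) (α (φ x5)) ≤ 16 := by
  have e1 : c2 (β (φ x5)) (α (φ x5)) ≤ c2 (β (φ b5)) (α (φ x5)) :=
    c2_le (β.comp φ) fun g => (cm c (φ x5) (φ g)).symm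
  have e2 := tyb c (pw φ x5_pow) u1 (pw φ Lib.VonDyck.b5_pow) (E82.F5.b_ne u1)
  omega

theorem ne16 (φ : A5 →* A6) (u1 : φ x5 ≠ 1) (h : cf (β (φ b5)) = 92) : c2 (β (φ x5)) (α (φ x5)) ≠ 16 := fun h16 => by
  have e1 : c2 (β (φ b5)) (α (φ x5)) = 16 := v5b (β.comp φ) (α (φ x5)) (α (φ w5))
    ⟨pw α (pw φ x5_pow), (ord5 c (pw φ x5_pow) u1).1, fun g => (cm c (φ x5) (φ g)).symm,
      fun g => (cm c (φ w5) (φ g)).symm, inv_w (α.comp φ), w_sq (α.comp φ)⟩ h16
  have e2 := tyb c (pw φ x5_pow) u1 (pw φ Lib.VonDyck.b5_pow) (E82.F5.b_ne u1)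
  omega

theorem eight (φ : A5 →* A6) (u1 : φ x5 ≠ 1) (h : c2 (β (φ x5)) (α (φ x5)) < 16) :
    c2 (β (φ x5)) (α (φ x5)) = 8 ∧ cf (β (φ x5)) = 48 := by
  have hu := pw φ x5_pow
  obtain ⟨e1, e2⟩ := ord5 c hu u1
  have hw : α (φ w5) * α (φ x5) * (α (φ w5))⁻¹ = (α (φ x5))⁻¹ := inv_w (α.comp φ)
  obtain ⟨C, hC, e3⟩ := dimE (p := β (φ x5)) (q := α (φ x5)) (w := α (φ w5)) (k := 1) (pw β hu) (pw α hu)
    (cm c _ _).symm (cm c _ _).symm hw (ane c u1) (by decide) (pow_one _).symm (pow_one _).symm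
  have e4 : cf (β (φ x5) * (α (φ x5))⁻¹) = 48 := by
    rw [← map_inv, ← c.ab, mix c (isConj_iff.2 ⟨φ w5, inv_w φ⟩) (IsConj.refl _), e2]
  rw [← c.ab, e1, e2, e4] at e3
  rcases fd5 (pw β hu) (bne c u1) with e5 | e5
  · have e6 := frame (α (φ x5)) (β (φ x5)) (α (φ w5)) ⟨pw α hu, pw β hu, ane c u1, cm c _ _, hw, cm c _ _⟩ e5
    rw [c2_comm] at e6
    rcases e6 with e6 | e6 | e6 | e6
    · have := e6.1; omega
    · have := e6.1; omega
    · omega
    · omega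
  · omega

theorem quad {h h' m : A6} (h3 : h ^ 3 = 1) (h3' : h' ^ 3 = 1) (hc : Commute h h') (c1 : IsConj h h') (c2 : IsConj h h⁻¹)
    (c3 : IsConj h h'⁻¹) (c4 : IsConj m (h * h')) (c5 : IsConj m (h * h'⁻¹)) (e1 : cf (α h) = 92) (e2 : cf (β h) = 92)
    (e3 : cf (α m) = 80) (e4 : cf (β m) = 80) (e5 : cf (α h * β h) = 80) : Quad ![α h, α h', β h, β h'] 92 80 := by
  have r := IsConj.refl h
  have c6 : IsConj h h'⁻¹ := c3
  refine ⟨fun i => ?_, fun i j => ?_, fun i => ?_, fun i j hij => ?_, fun i j hij => ?_⟩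
  · fin_cases i
    exacts [pw α h3, pw α h3', pw β h3, pw β h3']
  · fin_cases i <;> fin_cases j
    exacts [Commute.refl _, hc.map α, cm c _ _, cm c _ _, (hc.map α).symm, Commute.refl _, cm c _ _, cm c _ _,
      (cm c _ _).symm, (cm c _ _).symm, Commute.refl _, hc.map β, (cm c _ _).symm, (cm c _ _).symm, (hc.map β).symm,
      Commute.refl _]
  · fin_cases i
    exacts [e1, (cf_isConj c1 α).symm.trans e1, e2, (cf_isConj c1 β).symm.trans e2]
  · fin_cases i <;> fin_cases j <;> first | exact absurd hij (by decide) | skip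
    · exact (congrArg cf (map_mul α h h').symm).trans ((cf_isConj c4 α).symm.trans e3)
    · exact e5
    · exact (mix c r c1).trans e5
    · exact (mix c c1 r).trans e5
    · exact (mix c c1 c1).trans e5
    · exact (congrArg cf (map_mul β h h').symm).trans ((cf_isConj c4 β).symm.trans e4)
  · have i1 : ∀ x y : A6, cf (α x * (β y)⁻¹) = cf (α x * β y⁻¹) := fun x y => by rw [map_inv]
    have i2 : ∀ ρ : A6 →* E2, cf (ρ h * (ρ h')⁻¹) = cf (ρ m) := fun ρ => by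
      rw [← map_inv, ← map_mul, cf_isConj c5 ρ]
    fin_cases i <;> fin_cases j <;> first | exact absurd hij (by decide) | skip
    · exact (i2 α).trans e3
    · exact (i1 _ _).trans ((mix c r c2).trans e5)
    · exact (i1 _ _).trans ((mix c r c3).trans e5)
    · exact (i1 _ _).trans ((mix c c1 c2).trans e5)
    · exact (i1 _ _).trans ((mix c c1 c3).trans e5)
    · exact (i2 β).trans e4

omit c in
/-- **`BoxNum`** -/
theorem boxNum : BoxNum := by
  intro α β c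
  obtain ⟨φ, φ', e0, u1, e1, e2⟩ := exists_phi
  have hu := pw φ x5_pow
  have u1' : φ' x5 ≠ 1 := e0 ▸ u1
  have e3 : cf (β (φ' b5)) = cf (β k1) := (cf_isConj e2 β).symm
  have h16 : c2 (β (φ x5)) (α (φ x5)) < 16 := by
    rcases two_cls c hu u1 with e4 | e4
    · have a1 := le16 c φ u1 (by rw [e1, e4.1])
      have a2 := ne16 c φ' u1' (e3.trans e4.2)
      rw [e0] at a2
      omega
    · have a1 := le16 c φ' u1' (e3.trans e4.2)
      have a2 := ne16 c φ u1 (by rw [e1, e4.1])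
      rw [e0] at a1
      omega
  obtain ⟨h8, h48⟩ := eight c φ u1 h16
  refine ⟨⟨φ, u1, h8⟩, ?_⟩
  have t1 := ty48 (pw α h1_pow) (pw β hu) (cm c _ _) (ane c h1_ne) (bne c u1) h48
  have t2 := ty48 (pw α k1_pow) (pw β hu) (cm c _ _) (ane c k1_ne) (bne c u1) h48
  obtain ⟨s1, s2⟩ := swp c hu u1
  have q1 := idx c h1_pow (cj cB)
  have q2 := q_k α
  rw [s1] at q1
  rcases two_cls c hu u1 with e4 | e4 <;> rw [e4.1] at q1 <;> rcases t1 with t1 | t1 <;> rcases t2 with t2 | t2 <;>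
    rw [t1.2, t2.2] at q1 q2 <;> first | exact absurd q1 (by decide) | exact absurd q2 (by decide) | skip
  · exact ⟨k1, k2, quad c k1_pow k2_pow k12 (cj cC) (cj cB) (cj cA) (m := h1) (cj cB) (cj cC) t2.2 e4.2 t1.2 e4.1
      (s2.trans t1.2)⟩
  · exact ⟨h1, h2, quad c h1_pow h2_pow h12 (cj cA) (cj cB) (cj cC) (m := k1) (IsConj.refl _) (cj cC) t1.2 e4.1 t2.2 e4.2
      (s1.trans t2.2)⟩

end Cfsg.Agent.Cam.Q2.Num
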