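import Cfsg.Agent.Cam.Q2.Iface
import Cfsg.Agent.Cam.Ex.U1
import Cfsg.Agent.Cam.Ex.PBox
import Cfsg.Agent.Cam.Ex.Five2A
import Cfsg.Agent.Cam.Ex.ConnTor

/-!
# S3690, the group `E₈(2)`: `boxS7a` (helper77)
-/

set_option autoImplicit false
set_option linter.unusedVariables false
set_option linter.unusedSectionVars false

namespace Cfsg.Agent.Cam.Q2

open CoxeterSystem Cfsg Cfsg.Lie Subgroup
open Cfsg.Agent.ChevalleyStructure.CoxeterGeom Cfsg.Agent.ChevalleyStructure.CoxeterGeomTypes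
open Cfsg.Agent.Tits.Roots Cfsg.Agent.Nodes.BNOf Cfsg.Agent.Nodes.RGDChev
open Cfsg.Agent.KFacts.RgdChevCoord
open Cfsg.Agent.Cam.Spor Cfsg.Agent.Cam.Ex Cfsg.Agent.H795

namespace S7a

theorem conj_iter {U : Type} [Group U] {u v : U} {k : ℕ} (h : v * u * v⁻¹ = u ^ k) (n : ℕ) :
    v ^ n * u * (v ^ n)⁻¹ = u ^ k ^ n := by
  induction n with
  | zero => simp
  | succ n ih =>
    rw [show v ^ (n + 1) * u * (v ^ (n + 1))⁻¹ = v * (v ^ n * u * (v ^ n)⁻¹) * v⁻¹ by group, ih, ← conj_pow, h,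
      ← pow_mul, pow_succ' k]

theorem conj_cases {U : Type} [Group U] {u v : U} (hu : orderOf u = 7) {k : ℕ} (h2 : 2 ≤ k) (h7 : k < 7)
    (h : v * u * v⁻¹ = u ^ k) : ∃ v : U, v * u * v⁻¹ = u⁻¹ ∨ v * u * v⁻¹ = u ^ 2 := by
  have key : ∀ n, k ^ n % 7 = 2 → ∃ v : U, v * u * v⁻¹ = u⁻¹ ∨ v * u * v⁻¹ = u ^ 2 := fun n hn =>
    ⟨v ^ n, Or.inr (by rw [conj_iter h, ← pow_mod_orderOf, hu, hn])⟩
  interval_cases k
  · exact key 1 rfl
  · exact key 2 rfl
  · exact key 2 rfl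
  · exact key 4 rfl
  · exact ⟨v, Or.inl (h.trans (eq_inv_of_mul_eq_one_left (by rw [← pow_succ, show 6 + 1 = orderOf u from hu.symm, pow_orderOf_eq_one])))⟩

variable {L : Type} [Group L] [Finite L] {U : Type} [Group U] [Finite U] {τ α β : U →* L} {R R' : Subgroup L}

/-- abelian `r`-subgroups are toral in a conjugate frame, `r ≥ 7` -/
theorem exists_tor (E : F8 L) {r : ℕ} (hr : r.Prime) (h7 : 7 ≤ r) {Q : Subgroup L} (hQ : IsPGroup r Q)
    (hab : ∀ x ∈ Q, ∀ y ∈ Q, x * y = y * x) : ∃ E' : F8 L, E'.e = E.e ∧ ∀ x ∈ Q, E'.ι x ∈ TT chevE8 (kb 2) := by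
  have hfin : Finite (Q.map E.ι) := Finite.of_surjective _ (E.ι.subgroupMap_surjective Q)
  obtain ⟨h1, h2⟩ := RowsA.torsE8 tE8 hr (by omega) (by omega)
  obtain ⟨g, hg⟩ := TorSub.exists_toral_abelian tE8 2 (H469.Exc.locFin 2) hr (by omega) h1 h2 (hQ.map E.ι) (by
    rintro _ ⟨x, hx, rfl⟩ _ ⟨y, hy, rfl⟩
    rw [← map_mul, ← map_mul, hab x hx y hy])
  obtain ⟨E', h3, h4⟩ := E.exists_cj (Q := Q) (Set.toFinite _) (g := g) fun x hx => hg _ ⟨x, hx, rfl⟩
  exact ⟨E', h3.1, fun x hx => by rw [h4 x hx]; exact hg _ ⟨x, hx, rfl⟩⟩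

/-- toral elements of prime order `≥ 7` are standard -/
theorem std (big : Big) (nf : BoxNF) (E : F8 L) (he : E.e = 1) (c : Core τ α β R R') {r : ℕ} [hr : Fact r.Prime]
    (h7 : 7 ≤ r) {ζ : kb 2} (hζ : IsPrimitiveRoot ζ r) {u : U} (hu : orderOf u = r) {X : Lat 8 →+ ZMod r}
    (hX : Chi tE8 ζ (E.ι (τ u)) X) : r = 7 ∧ Std X := by
  obtain ⟨w, hw⟩ := E.gr
  have h1 := P.k1 E big c hr.out (by omega) (Q := {u}) (by
    rintro _ rfl
    exact ⟨by rw [← hu, pow_orderOf_eq_one], hX.1⟩)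
  rw [Set.image_singleton, hX.psiS hζ] at h1
  refine nf r hr.out h7 X w (hX.ne_zero hζ boxChi fun e => ?_) h1 fun a => ?_
  · rw [c.pair.inj (E.inj (e.trans (by rw [map_one, map_one]) : _ = E.ι (τ 1))), orderOf_one] at hu
    omega
  · have h2 := hX.frob hζ boxChi E (E.fix _) a
    rwa [hw, sg_apply, Units.val_one, one_smul, Frame.q, he, pow_one, Nat.cast_ofNat] at h2

/-- no toral subgroup `7 ^ 2` -/
theorem mem_zpowers (big : Big) (lat : BoxLat) (E : F8 L) (he : E.e = 1) (c : Core τ α β R R') {x y : U}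
    (hx : orderOf x = 7) (hy : orderOf y = 7) (hc : Commute x y) (tx : E.ι (τ x) ∈ TT chevE8 (kb 2))
    (ty : E.ι (τ y) ∈ TT chevE8 (kb 2)) : y ∈ zpowers x := by
  have : Fact (Nat.Prime 7) := ⟨by norm_num⟩
  by_contra h
  obtain ⟨ζ, hζ⟩ := exists_zeta 2 (m := 7) (by norm_num)
  have x7 : x ^ 7 = 1 := by rw [← hx, pow_orderOf_eq_one]
  have y7 : y ^ 7 = 1 := by rw [← hy, pow_orderOf_eq_one]
  obtain ⟨X, hX⟩ := chi_ex tE8 hζ (by norm_num) tx (by rw [← map_pow, ← map_pow, x7, map_one, map_one])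
  obtain ⟨Y, hY⟩ := chi_ex tE8 hζ (by norm_num) ty (by rw [← map_pow, ← map_pow, y7, map_one, map_one])
  have h1 := lat.l3 X Y fun i j hi hj hij => (std big lat.nf E he c le_rfl hζ (u := x ^ i * y ^ j)
    (orderOf_eq_prime (by rw [(hc.pow_pow i j).mul_pow, pow_right_comm, x7, pow_right_comm, y7, one_pow, one_pow, one_mul])
      fun e => by
        rcases Nat.eq_zero_or_pos j with rfl | h0
        · rw [pow_zero, mul_one] at e
          have := Nat.le_of_dvd (by omega) (hx ▸ orderOf_dvd_of_pow_eq_one e)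
          omega
        · refine h ((zpowers_le.2 ?_ : zpowers (y ^ j) ≤ zpowers x) (mem_zpowers_pow_iff.2 ?_))
          · rw [eq_inv_of_mul_eq_one_right e]
            exact inv_mem (pow_mem (Subgroup.mem_zpowers x) i)
          · rw [hy]
            exact (Nat.coprime_of_lt_prime h0.ne' hj (by norm_num)).symm)
    (by
      rw [map_mul, map_mul, map_pow, map_pow, map_pow, map_pow]
      exact (Five2.chi_pow hζ hX i).mul hζ (Five2.chi_pow hζ hY j))).2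
  refine P.k1 E big c (r := 7) (by norm_num) (by norm_num) (Q := {x, y}) (by
    rintro _ (rfl | rfl)
    exacts [⟨x7, tx⟩, ⟨y7, ty⟩]) (sr 0) (isRoot_sr _ _ 0) fun a ha => (h1 a ha.1 ?_ ?_).elim
  · exact (zeta_eq_one hζ).1 ((hX.2 a ha.1).symm.trans (ha.2 _ ⟨x, Or.inl rfl, rfl⟩))
  · exact (zeta_eq_one hζ).1 ((hY.2 a ha.1).symm.trans (ha.2 _ ⟨y, Or.inr rfl, rfl⟩))

end S7a

open S7a Ub in
/-- **[S7a]** -/
theorem boxS7a : BoxS7a := by
  intro big lat L _ _ E he U _ _ τ α β R R' c r hr h7 hd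
  classical
  have : Fact r.Prime := ⟨hr⟩
  obtain ⟨A, hA, hab, v, σ, hσ, hv⟩ := exists_aut c.simple c.noncomm hr hd
  have h1 : ∀ a ∈ α '' A ∪ β '' A, ∀ b ∈ α '' A ∪ β '' A, a * b = b * a := by
    rintro _ (⟨a, ha, rfl⟩ | ⟨a, ha, rfl⟩) _ (⟨b, hb, rfl⟩ | ⟨b, hb, rfl⟩)
    · rw [← map_mul, ← map_mul, hab a ha b hb]
    · exact c.ab a b
    · exact (c.ab b a).symm
    · rw [← map_mul, ← map_mul, hab a ha b hb]
  have h2 : ∀ (f : U →* L), ∀ a ∈ A, ∃ n : ℕ, f a ^ r ^ n = 1 := fun f a ha => by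
    obtain ⟨n, hn⟩ := hA ⟨a, ha⟩
    exact ⟨n, by rw [← map_pow, show a ^ r ^ n = 1 from congrArg Subtype.val hn, map_one]⟩
  obtain ⟨E', he', hE⟩ := exists_tor E hr h7 (Q := closure (α '' A ∪ β '' A)) (DS.Nt.isPGroup_of_comm h1 (by
    rintro _ (⟨a, ha, rfl⟩ | ⟨a, ha, rfl⟩)
    exacts [h2 α a ha, h2 β a ha])) fun a ha b hb => by
    have := Subgroup.isMulCommutative_closure h1
    exact setLike_mul_comm ha hb
  rw [he] at he'
  have ha : ∀ a : A, E'.ι (α a) ∈ TT chevE8 (kb 2) := fun a => hE _ (subset_closure (Or.inl ⟨a, a.2, rfl⟩))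
  have hb : ∀ a : A, E'.ι (β a) ∈ TT chevE8 (kb 2) := fun a => hE _ (subset_closure (Or.inr ⟨a, a.2, rfl⟩))
  have ht : ∀ a : A, E'.ι (τ a) ∈ TT chevE8 (kb 2) := fun a => by
    rw [c.eq, map_mul]; exact mul_mem (ha a) (hb a)
  have h3 : orderOf σ ≠ 7 := fun h => (RowsA.torsE8 tE8 hσ (by omega) (by omega)).1 (sq_dvd tE8
    (f := E'.ι.comp (α.comp A.subtype)) (g := E'.ι.comp (β.comp A.subtype))
    (E'.inj.comp (c.pair'.inj.comp Subtype.val_injective))
    (E'.inj.comp (c.binj.comp Subtype.val_injective)) ha hb σ (x := E'.ι (α v)) (y := E'.ι (β v)) (fun a => by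
      show _ * E'.ι (α a) * _ = E'.ι (α (σ a))
      rw [hv, map_mul, map_mul, map_mul, map_mul, map_inv, map_inv]) (fun a => by
      show _ * E'.ι (β a) * _ = E'.ι (β a)
      rw [← map_mul, c.ab, map_mul, mul_inv_cancel_right]) (fun a => by
      show _ * E'.ι (α a) * _ = E'.ι (α a)
      rw [← map_mul, ← c.ab, map_mul, mul_inv_cancel_right]) fun a => by
      show _ * E'.ι (β a) * _ = E'.ι (β (σ a))
      rw [hv, map_mul, map_mul, map_mul, map_mul, map_inv, map_inv])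
  let _ : CommGroup A := { (inferInstance : Group A) with mul_comm := fun a b => Subtype.ext (hab a a.2 b b.2) }
  obtain ⟨u, hu, hn⟩ := exists_norm hr hA (σ := σ) (m := orderOf σ) (fun e => by
    rw [e, orderOf_one] at hσ
    exact Nat.not_prime_one hσ) (pow_orderOf_eq_one σ)
  have hu' : orderOf (u : U) = r := by rw [Subgroup.orderOf_coe, hu]
  obtain ⟨ζ, hζ⟩ := exists_zeta 2 (m := r) ((Nat.coprime_primes hr Nat.prime_two).2 (by omega))
  obtain ⟨X, hX⟩ := chi_ex tE8 hζ hr.pos (ht u) (by rw [← map_pow, ← map_pow, ← hu', pow_orderOf_eq_one, map_one, map_one])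
  obtain rfl := (std big lat.nf E' he' c h7 hζ hu' hX).1
  have h4 : orderOf (σ u : U) = 7 := by rw [Subgroup.orderOf_coe, MulEquiv.orderOf_eq, hu]
  obtain ⟨k, hk, h5⟩ := Finset.mem_image.1 (mem_zpowers_iff_mem_range_orderOf.1
    (mem_zpowers big lat E' he' c hu' h4 (hab _ u.2 _ (σ u).2) (ht _) (ht _)))
  rw [hu', Finset.mem_range] at hk
  have h6 : k ≠ 0 := by
    rintro rfl
    rw [← h5, pow_zero, orderOf_one] at h4
    omega
  have h8 : k ≠ 1 := by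
    rintro rfl
    have h9 : σ u = u := Subtype.ext (h5.symm.trans (pow_one _))
    have h10 : ∀ i : ℕ, (σ ^ i) u = u := fun i => by
      induction i with
      | zero => rfl
      | succ i ih => rw [pow_succ, MulAut.mul_apply, h9, ih]
    rw [Finset.prod_congr rfl fun i _ => h10 i, Finset.prod_const, Finset.card_range] at hn
    exact h3 ((Nat.prime_dvd_prime_iff_eq hr hσ).1 (hu ▸ orderOf_dvd_of_pow_eq_one hn)).symm
  obtain ⟨v', h9⟩ := conj_cases hu' (by omega) hk ((hv u).symm.trans h5.symm)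
  exact ⟨u, v', hu', h9⟩

end Cfsg.Agent.Cam.Q2
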