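import Cfsg.Agent.Cam.Q2.Iface
import Cfsg.Agent.Cam.Ex.U4
import Cfsg.Agent.Cam.Ex.PBox

/-!
# S3690, the group `E₈(2)`: `boxS7c` (helper33)

An element of order seven of `U` is not conjugate to its square.
-/

set_option autoImplicit false
set_option linter.unusedVariables false
set_option linter.unusedSectionVars false

namespace Cfsg.Agent.Cam.Q2.S7c

open CoxeterSystem Cfsg Cfsg.Lie Subgroup
open Cfsg.Agent.ChevalleyStructure.CoxeterGeom Cfsg.Agent.ChevalleyStructure.CoxeterGeomTypes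
open Cfsg.Agent.Tits.Roots Cfsg.Agent.Nodes.BNOf Cfsg.Agent.Nodes.RGDChev Cfsg.Agent.Nodes.Coroot
open Cfsg.Agent.KFacts.RgdChevCoord Cfsg.Agent.BpExc.TorCent Cfsg.Agent.BpExc.SubBN
open Cfsg.Agent.Cam.Spor Cfsg.Agent.Cam.Ex Cfsg.Agent.TwoFusion.PerfCore
open Cfsg.Agent.Cam.Ex.SL3
open Cfsg.Agent.Cam.Ex.Cb.Ub (perm3)

variable {L : Type} [Group L] [Finite L] {U : Type} [Group U] [Finite U] {τ α β : U →* L} {R R' : Subgroup L}

/-- abelian `r`-subgroups, `r ≥ 7`, are toral in a conjugate frame -/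
theorem exists_tor (E : F8 L) {r : ℕ} (hr : r.Prime) (h7 : 7 ≤ r) {Q : Subgroup L} (hQ : IsPGroup r Q)
    (hab : ∀ x ∈ Q, ∀ y ∈ Q, x * y = y * x) : ∃ E' : F8 L, E.Cj E' ∧ ∀ x ∈ Q, E'.ι x ∈ TT chevE8 (kb 2) := by
  have hfin : Finite (Q.map E.ι) := Finite.of_surjective _ (E.ι.subgroupMap_surjective Q)
  obtain ⟨h1, h2⟩ := H795.RowsA.torsE8 tE8 hr (by omega) (by omega)
  obtain ⟨g, hg⟩ := H795.TorSub.exists_toral_abelian tE8 2 (H469.Exc.locFin 2) hr (by omega) h1 h2 (S := Q.map E.ι)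
    (hQ.map E.ι) (by
    rintro _ ⟨x, hx, rfl⟩ _ ⟨y, hy, rfl⟩
    rw [← map_mul, ← map_mul, hab x hx y hy])
  obtain ⟨E', h1, h2⟩ := E.exists_cj (Q := Q) (Set.toFinite _) (g := g) fun x hx => hg _ ⟨x, hx, rfl⟩
  exact ⟨E', h1, fun x hx => by rw [h2 x hx]; exact hg _ ⟨x, hx, rfl⟩⟩

/-- the Frobenius map acts as an element of the Weyl group which doubles the rational characters -/
theorem exists_frob (E : F8 L) (he : E.e = 1) : ∃ w : W8, (∀ a, E.g a = wa tE8 w a) ∧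
    ∀ {r : ℕ} [NeZero r] {ζ : kb 2}, IsPrimitiveRoot ζ r → ∀ {x : L} {φ : Lat 8 →+ ZMod r}, Chi tE8 ζ (E.ι x) φ → Eg w φ 2 := by
  obtain ⟨w, hw⟩ := E.gr
  have h1 : ∀ a, E.g a = wa tE8 w a := fun a => by rw [hw, sg_apply, Units.val_one, one_smul]
  refine ⟨w, h1, fun hζ x φ h a => ?_⟩
  rw [← h1, h.frob hζ boxChi E (E.fix x), Frame.q, he, pow_one, Nat.cast_ofNat]

theorem eg_four {ζ : kb 2} (hζ : IsPrimitiveRoot ζ 7) {s : YY chevE8 2} {φ : Lat 8 →+ ZMod 7} (h : Chi tE8 ζ s φ) {w : W8}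
    (hw : ∀ a, Rt tE8 a → ch tE8 (wa tE8 w a) (s * s) = ch tE8 a s) : Eg w φ 4 := fun a => by
  have h1 := h.of_conj hζ (h.mul hζ h) hw a
  rw [AddMonoidHom.add_apply] at h1
  have h2 : (7 : ZMod 7) = 0 := rfl
  linear_combination 4 * h1 - φ (wa tE8 w a) * h2

theorem sq_kill {ζ : kb 2} (hζ : IsPrimitiveRoot ζ 7) {s : YY chevE8 2} {φ : Lat 8 →+ ZMod 7} (h : Chi tE8 ζ s φ)
    {a : Lat 8} (ha : Rt tE8 a) (h1 : ch tE8 a (s * s) = 1) : φ a = 0 := by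
  have h2 := (zeta_eq_one hζ).1 (((h.mul hζ h).2 a ha).symm.trans h1)
  rw [AddMonoidHom.add_apply] at h2
  have h3 : (7 : ZMod 7) = 0 := rfl
  linear_combination 4 * h2 - φ a * h3

theorem perm7 {f : Fin 3 → ZMod 7} {σ : Equiv.Perm (Fin 3)} (h : ∀ i j, f (σ i) - f (σ j) = 4 * (f i - f j))
    (h0 : ¬ ∀ i j, f i = f j) : (∀ i, σ i ≠ i) ∧ ∀ i j, i ≠ j → f i ≠ f j := by
  have h3 : (3 : ZMod 7) ≠ 0 := by decide
  have h4 : (4 : ZMod 7) ^ 2 + 4 + 1 = 0 := by decide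
  have : Fact (Nat.Prime 7) := ⟨by norm_num⟩
  exact perm3 (K := ZMod 7) h3 h4 h h0

theorem main (big : Big) (bl : BoxLat) (E : F8 L) (he : E.e = 1) (c : Core τ α β R R') {x v : U} (hx : orderOf x = 7)
    (h1 : v * x * v⁻¹ = x * x) (ax : E.ι (α x) ∈ TT chevE8 (kb 2)) (bx : E.ι (β x) ∈ TT chevE8 (kb 2)) : False := by
  have hr : Nat.Prime 7 := by norm_num
  obtain ⟨ζ, hζ⟩ := exists_zeta 2 (m := 7) (by norm_num)
  have hxr : x ^ 7 = 1 := by rw [← hx, pow_orderOf_eq_one]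
  have hpw : ∀ f : U →* L, E.ι (f x) ^ 7 = 1 := fun f => by rw [← map_pow, ← map_pow, hxr, map_one, map_one]
  have hne1 : ∀ f : U →* L, Function.Injective f → E.ι (f x) ≠ 1 := fun f hf e => by
    have h3 : x = 1 := hf (E.inj (by rw [e, map_one, map_one]))
    rw [h3, orderOf_one] at hx
    omega
  obtain ⟨A, hA⟩ := chi_ex tE8 hζ hr.pos ax (hpw α)
  obtain ⟨B, hB⟩ := chi_ex tE8 hζ hr.pos bx (hpw β)
  have hX : Chi tE8 ζ (E.ι (τ x)) (A + B) := by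
    rw [c.eq x, map_mul]
    exact hA.mul hζ hB
  have hcj : ∀ {n : L} {f : U →* L}, (∀ u, n * f u * n⁻¹ = f (v * u * v⁻¹)) →
      E.ι n * E.ι (f x) * (E.ι n)⁻¹ = E.ι (f x) * E.ι (f x) := by
    intro n f h
    rw [← map_inv, ← map_mul, ← map_mul, h, h1, map_mul, map_mul]
  -- the element of `W` induced by `β v`
  obtain ⟨w, hw, h3⟩ := chi_conj tE8 (Q := {E.ι (α x)}) (by rintro _ rfl; exact ax)
    (y := E.ι (β v)) (mem_sup_left (chi_perf tE8 hr (by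
      rintro _ rfl
      exact ⟨ax, 1, by rw [pow_one]; exact hpw α⟩)
      (range_perfect c.simple c.noncomm (E.ι.comp β)) (by
      rintro _ ⟨u, rfl⟩ _ rfl
      exact (map_mul _ _ _).symm.trans ((congrArg _ (c.ab _ u)).trans (map_mul _ _ _))) ⟨v, rfl⟩))
  rw [hA.psiS hζ] at hw
  have b1 := hcj (n := β v) (f := β) fun u => by rw [map_mul, map_mul, map_inv]
  have eB : Eg w B 4 := eg_four hζ hB (by have := h3 _ bx (by rw [b1]; exact mul_mem bx bx); rwa [b1] at this)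
  -- the element of `W` induced by `τ v`
  have x1 := hcj (n := τ v) (f := τ) fun u => by rw [map_mul, map_mul, map_inv]
  have a1 := hcj (n := τ v) (f := α) fun u => c.conj_alpha u v
  have hs : ∀ i, ![E.ι (τ x), E.ι (α x)] i ∈ TT chevE8 (kb 2) := by
    intro i
    fin_cases i
    exacts [hX.1, ax]
  obtain ⟨m, hm, w', k, hk, hks, e⟩ := DS.Nt.form₂ tE8 hs
    (t := ![E.ι (τ x) * E.ι (τ x), E.ι (α x) * E.ι (α x)]) (c := E.ι (τ v)) (by
      intro i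
      fin_cases i
      exacts [mul_mem hX.1 hX.1, mul_mem ax ax]) (by
      intro i
      fin_cases i
      exacts [mul_inv_eq_iff_eq_mul.1 x1, mul_inv_eq_iff_eq_mul.1 a1])
  have h4 := fun i a (ha : Rt tE8 a) => (congrArg (ch tE8 (wa tE8 w' a)) (mul_inv_eq_iff_eq_mul.2 (hks i))).symm.trans
    (ch_rp hk (hs i) ha)
  have eX : Eg w' (A + B) 4 := eg_four hζ hX (h4 0)
  have eA : Eg w' A 4 := eg_four hζ hA (h4 1)
  -- `K1` and the types
  obtain ⟨w0, hg, hf⟩ := exists_frob E he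
  have kX : K1 tE8 2 (Psi tE8 (A + B)) := by
    have h6 := P.k1 E big c hr (by norm_num) (Q := {x}) (by rintro _ rfl; exact ⟨hxr, hX.1⟩)
    rwa [Set.image_singleton, hX.psiS hζ] at h6
  have kA : K1 tE8 2 (Psi tE8 A) := by
    obtain ⟨τ', α', β', Q, Q', ψ, c', -, hψ, -⟩ := Five2.exists_pair c
    have h6 := P.k1 E big c' hr (by norm_num) (Q := {ψ x}) (by
      rintro _ rfl
      exact ⟨by rw [← map_pow, hxr, map_one], by rw [hψ]; exact ax⟩)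
    rwa [Set.image_singleton, hψ, hA.psiS hζ] at h6
  have sX := (bl.nf 7 hr le_rfl _ w0 (hX.ne_zero hζ boxChi (hne1 τ c.pair.inj)) kX (hf hζ hX)).2
  have sA := (bl.nf 7 hr le_rfl _ w0 (hA.ne_zero hζ boxChi (hne1 α c.pair'.inj)) kA (hf hζ hA)).2
  obtain ⟨γ, γ', T⟩ := bl.l2 _ sX
  have h5 := bl.l4 A B w γ γ' sA sX T hw (Or.inr eB) (hB.ne_zero hζ boxChi (hne1 β c.binj))
  obtain ⟨σ, hσ⟩ : ∃ σ : Equiv.Perm (Fin 3), ∀ i j,
      wa tE8 w' (ev γ γ' i - ev γ γ' j) = ev γ γ' (σ i) - ev γ γ' (σ j) := by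
    obtain ⟨w1, h6, h7⟩ := T.pos w' 4 eX (by decide)
    obtain ⟨σ, hσ⟩ := T.p2.act_WW h6
    refine ⟨σ, fun i j => ?_⟩
    by_cases hij : i = j
    · rw [hij, sub_self, sub_self]
      exact map_zero _
    · rw [h7 _ (mem_A2s.2 ⟨i, j, hij, rfl⟩), hσ, Units.val_one, one_smul]
  obtain ⟨h6, h7⟩ := perm7 (f := fun i => A (ev γ γ' i)) (σ := σ)
    (fun i j => by
      rw [← map_sub, ← map_sub, ← hσ]
      exact eA _) fun h6 => h5 ⟨by rw [← ev01 γ γ', map_sub, h6 0 1, sub_self],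
        by rw [← ev12 γ γ', map_sub, h6 1 2, sub_self]⟩
  obtain ⟨m4, m6, -⟩ := DS.Ex.TorCE.typE_facts tE8 (Or.inr (Or.inr rfl))
  obtain ⟨w1, h8, h9⟩ := T.pos w0 2 (hf hζ hX) (by decide)
  have h10 : ∀ a ∈ A2s γ γ', E.g a = wa tE8 w1 a := fun a ha => by rw [hg, h9 a ha, Units.val_one, one_smul]
  refine P.a2 E big (by norm_num) c T.p2
    (fun a ha => h10 a ha ▸ Five2.ww_A2s T.p2.r1 T.p2.r2 T.p2.c1 T.p2.c2 h8 a ha) (Or.inr ⟨w1, h8, h10⟩)
    fun a ha z hz ρ hρ => ?_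
  refine Ub.cen_a2 T.p2 (fun e => absurd (congrArg ChevalleyDatum.rank e) (by decide)) m4 m6 (S := PsiS tE8 {E.ι (τ x)})
    (fun a ha => ha.1) (fun a ha => T.orth a (hX.psiS hζ ▸ ha)) (fun a ha => ⟨ha.1, ?_⟩) (map_perfect c.pair.perfect E.ι)
    (chi_perf tE8 hr ?_ (map_perfect c.pair.perfect E.ι) ?_) hm hk h6 hσ ?_ ha hz ⟨ρ, hρ, rfl⟩
  · refine (T.orth a ⟨ha.1, sq_kill hζ hX ha.1 (ha.2 _ ⟨0, rfl⟩)⟩).resolve_left fun h11 => ?_
    have h12 := sq_kill hζ hA ha.1 (ha.2 _ ⟨1, rfl⟩)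
    obtain ⟨i, j, hij, rfl⟩ := mem_A2s.1 h11
    rw [map_sub, sub_eq_zero] at h12
    exact h7 i j hij h12
  · rintro _ rfl
    exact ⟨hX.1, 1, by rw [pow_one]; exact hpw τ⟩
  · rintro _ ⟨u, hu, rfl⟩ _ rfl
    exact (map_mul _ _ _).symm.trans ((congrArg _ (c.pair.comm _ u hu)).trans (map_mul _ _ _))
  · rintro _ ⟨u, hu, rfl⟩
    rw [← e, ← map_mul, ← map_mul, c.pair.comm v u hu]

end S7c

/-- **[S7c]** -/
theorem boxS7c : BoxS7c := by
  intro big bl L _ _ E he U _ _ τ α β R R' c u v hu h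
  have h0 : u ^ 7 ^ 1 = 1 := by rw [pow_one, ← hu, pow_orderOf_eq_one]
  have h1 : ∀ a ∈ ({α u, β u} : Set L), ∀ b ∈ ({α u, β u} : Set L), a * b = b * a := by
    rintro _ (rfl | rfl) _ (rfl | rfl)
    exacts [rfl, c.ab u u, (c.ab u u).symm, rfl]
  obtain ⟨E', h2, hE⟩ := S7c.exists_tor E (r := 7) (by norm_num) le_rfl (Q := Subgroup.closure {α u, β u})
    (DS.Nt.isPGroup_of_comm h1 (by
      rintro _ (rfl | rfl) <;> exact ⟨1, by rw [← map_pow, h0, map_one]⟩)) fun a ha b hb => by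
    have := Subgroup.isMulCommutative_closure h1
    exact setLike_mul_comm ha hb
  exact S7c.main big bl E' (h2.1.trans he) c hu (h.trans (sq u)) (hE _ (Subgroup.subset_closure (Or.inl rfl)))
    (hE _ (Subgroup.subset_closure (Or.inr rfl)))

end Cfsg.Agent.Cam.Q2
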