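import Cfsg.Agent.Cam.Q2.Iface
import Cfsg.Agent.E82.F5.Row44

/-!
# S3690, the group `E₈(2)`: the rational group `3 ^ 8` and the fixed vector (helper94)
-/

set_option autoImplicit false
set_option maxRecDepth 100000

namespace Cfsg.Agent.Cam.Q2

open Cfsg Cfsg.Lie Cfsg.Lie.ChevalleyDatum
open Cfsg.Agent.Nodes.RGDChev (vec)
open Cfsg.Agent.BpExc.FamUntw (phi)
open Cfsg.Agent.H939.L64 (KK E2 LK em aK rE)
open Cfsg.Agent.H413.L16
open Cfsg.Agent.H876.L64 (aK_inv aK_inv')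
open Cfsg.Agent.H259.L34 (dz)
open Cfsg.Agent.H201.L34 (gz)
open Cfsg.Agent.H942.L16 (BF)
open Cfsg.Agent.E82 Cfsg.Agent.E82.Fr Cfsg.Agent.E82.F5

attribute [local instance] Cfsg.Agent.H413.L64.charKK

namespace TV

theorem core {ζ : KK} (hζ : IsPrimitiveRoot ζ 3) {z : GK} (hz : z⁻¹ * phi chevE8 KK 2 1 z = gz) {y : Fin 4 → E2}
    {V : Fin 4 → Fin 8 → ZMod 3} (h1 : ∀ i, One (y i) (V i) ζ z) (h : ∀ r < 240, ∃ i, dz (V i) (vec chevE8 8 r) ≠ 0) :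
    ∃ T : Subgroup E2, Nat.card T = 3 ^ 8 ∧ (∀ g ∈ T, g ^ 3 = 1) ∧ (∀ g ∈ T, ∀ h ∈ T, g * h = h * g) ∧
      (∀ g ∈ T, ∀ i, g * y i = y i * g) ∧ ∀ v : LK, (∀ i, rE (y i) v = v) → ∀ g ∈ T, rE g v = v := by
  choose g hg using exists_one hζ hz
  let φ : Multiplicative (Fin 8 → ZMod 3) →* E2 := MonoidHom.mk' (fun v => g v.toAdd) fun a b => cj_inj z (by
    show Fr.cj z (g (a.toAdd + b.toAdd)) = Fr.cj z (g a.toAdd * g b.toAdd)
    rw [map_mul]
    exact (hg _).ext ((hg _).mul hζ (hg _)))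
  have hφ : Function.Injective φ := fun a b hab => by
    have h1 : g a.toAdd = g b.toAdd := hab
    have h2 := hg a.toAdd
    rw [h1] at h2
    exact Multiplicative.toAdd.injective (h2.inj hζ (hg _))
  refine ⟨φ.range, ?_, ?_, ?_, ?_, ?_⟩
  · rw [← Nat.card_congr (MonoidHom.ofInjective hφ).toEquiv, Nat.card_congr Multiplicative.toAdd, Nat.card_fun,
      Nat.card_zmod, Nat.card_eq_fintype_card, Fintype.card_fin]
  · rintro _ ⟨a, rfl⟩
    exact cj_inj z (by rw [map_pow, map_one]; exact (hg a.toAdd).cube hζ)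
  · rintro _ ⟨a, rfl⟩ _ ⟨b, rfl⟩
    rw [← map_mul, mul_comm, map_mul]
  · rintro _ ⟨a, rfl⟩ i
    exact cj_inj z (by rw [map_mul, map_mul]; exact tt_comm (hg a.toAdd).1 (h1 i).tv.1)
  · rintro x hx _ ⟨a, rfl⟩
    change rE (g a.toAdd) x = x
    rw [← aK_inv z x, rE_cj, tor_fix (hg _).1]
    intro r hr
    obtain ⟨i, h2⟩ := h r hr
    refine (h1 i).tv.orth hζ ?_ hr h2
    have h3 := rE_cj z (y i) (aK z⁻¹ x)
    rw [aK_inv, hx i] at h3
    conv_rhs => rw [h3]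
    rw [aK_inv']

end TV

/-- **[T38]** -/
theorem boxT38 : BoxT38 := fun y h => by
  obtain ⟨ζ, z, hζ, h1, -⟩ := frame2 h.trip
  obtain ⟨u, z1, h2, h3⟩ := h1.step hζ (fun i => by fin_cases i; exacts [sm972, sm4726]) (h.cube 3) fun i => h.comm _ _
  obtain ⟨x, hx, rfl⟩ := vc_surj u
  have a0 : One (y 0) (vc 4402) ζ z1 := h2 0
  have a1 : One (y 1) (vc 972) ζ z1 := h2 1
  have a2 : One (y 2) (vc 4726) ζ z1 := h2 2
  have h4 := allN_spec chk8a x hx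
  rw [← cf_tc hζ hx h3, h.one, cp_of hζ a0 h3 (h.mul 0 3 (by decide)) (h.div 0 3 (by decide)),
    cp_of hζ a1 h3 (h.mul 1 3 (by decide)) (h.div 1 3 (by decide)),
    cp_of hζ a2 h3 (h.mul 2 3 (by decide)) (h.div 2 3 (by decide))] at h4
  simp only [Nat.beq_refl, Bool.and_self, Bool.not_true, Bool.false_or, Bool.and_eq_true, Bool.not_eq_true',
    ← Bool.not_eq_true, Nat.beq_eq] at h4
  obtain ⟨z', h5, h6⟩ := (tup4 a0 a1 a2 h3).frame hζ fun i => by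
    fin_cases i
    exacts [sm972, sm4726, sm_of_cf hζ h3 (Or.inl (h.one 3))]
  refine TV.core hζ h6 (V := ![vc 4402, vc 972, vc 4726, vc x]) (fun i => by
    fin_cases i
    exacts [h5 0, h5 1, h5 2, h5 3]) fun r hr => ?_
  by_cases k : ∀ i, dz (vc (cD i)) (vec chevE8 8 r) = 0
  · have k1 := dt_ne (r := 135) (by decide +kernel) (by norm_num) h4.1
    have k2 := dt_ne (r := 141) (by decide +kernel) (by norm_num) h4.2
    refine ⟨3, ?_⟩
    have k3 := L_cD r hr k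
    simp only [List.mem_cons, List.not_mem_nil, or_false] at k3
    rcases k3 with rfl | rfl | rfl | rfl
    exacts [k1.1, k1.2, k2.1, k2.2]
  · obtain ⟨i, hi⟩ := not_forall.1 k
    fin_cases i
    exacts [⟨0, hi⟩, ⟨1, hi⟩, ⟨2, hi⟩]

/-- **[Vec]** -/
theorem boxVec : BoxVec := fun U _ α β R' φ hc hβ h48 h8 => by
  have h1 : ∀ u v, Commute (β u) (α v) := fun u v => (hc v _ (hβ u)).symm
  have pa : α (φ x5) ^ 5 = 1 := map_pow_one (α.comp φ) x5_pow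
  have pb : β (φ x5) ^ 5 = 1 := map_pow_one (β.comp φ) x5_pow
  have qa : α (φ w5) * α (φ w5) = 1 := w_sq (α.comp φ)
  have qb : β (φ w5) * β (φ w5) = 1 := w_sq (β.comp φ)
  obtain ⟨⟨h, hh, hne⟩, hall⟩ := v5d (β.comp φ) (α (φ x5)) (α (φ w5))
    ⟨pa, h48, fun g => h1 _ _, fun g => h1 _ _, inv_w (α.comp φ), qa⟩ h8
  obtain ⟨c, hc1⟩ := exists_log (r := em (α (φ w5))) (by rw [← map_mul, qa, map_one])
  obtain ⟨c', hc2⟩ := exists_log (r := em (β (φ w5))) (by rw [← map_mul, qb, map_one])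
  have k1 : ∀ v, BF c v ^ 2 = BF v (rE (α (φ w5)) v) := hc1
  have k2 : ∀ v, BF c' v ^ 2 = BF v (rE (β (φ w5)) v) := hc2
  have s1 : ∀ r ∈ R', rE r (pr5 (α (φ x5)) c) = pr5 (α (φ x5)) c := fun r hr => by
    have k3 : rE r c = c := hc1.comm (by rw [← map_mul, ← map_mul, hc _ r hr])
    rw [pr5_comm (hc _ r hr).symm, k3]
  have s2 : ∀ u, rE (α u) (pr5 (β (φ x5)) c') = pr5 (β (φ x5)) c' := fun u => by
    have k3 : rE (α u) c' = c' := hc2.comm (by rw [← map_mul, ← map_mul, (h1 _ u).eq])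
    rw [pr5_comm (h1 _ u).symm, k3]
  have e : pr5 (α (φ x5)) c = pr5 (β (φ x5)) c' := by
    rw [← sub_eq_zero]
    refine nondeg2 pb pa (h1 _ _) (sub_mem ⟨mem_eig1.2 (s1 _ (hβ _)), pr5_mem pa c⟩ ⟨pr5_mem pb c', mem_eig1.2 (s2 _)⟩)
      fun v hv => ?_
    rw [map_sub, LinearMap.sub_apply, sub_eq_zero, BF_pr5 c (mem_eig1.1 hv.2), BF_pr5 c' (mem_eig1.1 hv.1)]
    exact sq_inj (by rw [k1, k2, hall v hv]; rfl)
  refine ⟨_, fun h0 => hne ?_, s2, e ▸ s1⟩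
  have k3 := BF_pr5 c' (mem_eig1.1 hh.1)
  have k4 := k2 h
  rw [← k3, show pr5 ((β.comp φ) x5) c' = 0 from h0, map_zero, LinearMap.zero_apply, zero_pow two_ne_zero] at k4
  exact k4.symm

end Cfsg.Agent.Cam.Q2
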