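import Cfsg.Agent.Cam.Q2.Asm
import Cfsg.Agent.Cam.Q2.NF
import Cfsg.Agent.Cam.Q2.L4
import Cfsg.Agent.Cam.Q2.S7a
import Cfsg.Agent.Cam.Q2.S7c
import Cfsg.Agent.Cam.Q2.Fr
import Cfsg.Agent.Cam.Q2.TV
import Cfsg.Agent.Cam.Q2.Num
import Cfsg.Agent.Cam.Q2.EndA6

/-!
# `E₈(2)`: all boxes but one (helper69)
-/

set_option autoImplicit false

namespace Cfsg.Agent.Cam.Q2.Fin

theorem boxLat : BoxLat := ⟨NF.boxNF, boxL2, boxL3, boxL4⟩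

theorem endA6 : Asm.EndA6 := fun _ _ _ _ _ _ _ _ c five e =>
  EndA6.noA6 Fr.boxInn N33.boxN33 boxT38 Num.boxNum boxVec c five e

theorem boxQ2_of (big : Big) (s7b : BoxS7b) : E8.BoxQ 2 :=
  Asm.boxQ_of (Asm.noCore_E2 big boxLat boxS7a s7b boxS7c Fr.boxFr Fr.boxFive Fr.boxInn endA6)

end Cfsg.Agent.Cam.Q2.Fin
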