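import Cfsg.Agent.Cam.Ex.SL3
import Cfsg.Agent.E82.Fr.T8
import Cfsg.Agent.E82.F5.Iface

/-!
# S3690, the group `E₈(2)`: interface (helper69)

The mathematics is in `notes/Cam/e8q2.md`.  Boxes `NF`, `L2`, `L3`, `L4` : the root lattice; `S7a`, `S7b`, `S7c` : the primes
`≥ 7`; `Fr`, `Five`, `Inn`, `N33`, `T38`, `Num`, `Vec` : the group `E2 = E₈(2)` and the library `E82`.
-/

set_option autoImplicit false
set_option linter.unusedVariables false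

namespace Cfsg.Agent.Cam.Q2

open Cfsg Cfsg.Lie Subgroup
open Cfsg.Agent.Cam.Spor Cfsg.Agent.Cam.Ex
open Cfsg.Agent.Cam.Ex.SL3 (P2)
open Cfsg.Agent.H939.L64 (E2 LK em rE)
open Cfsg.Agent.E82 (cf)
open Cfsg.Agent.E82.F5 (c2)
open Cfsg.Agent.E82.Fr (Quad)

/-- the Weyl group -/
abbrev W8 : Type := CoxeterMatrix.E₈.Group

/-- the frames -/
abbrev F8 (L : Type) [Group L] : Type := Frame tE8 2 1 (sg 8 1) L

/-- the alternating group of degree six -/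
abbrev A6 : Type := ↥(alternatingGroup (Fin 6))

/-- `φ ∘ w = e φ` (the same as `Cb.Ub.Eig`) -/
def Eg {r : ℕ} (w : W8) (φ : Lat 8 →+ ZMod r) (e : ZMod r) : Prop := ∀ a, φ (wa tE8 w a) = e * φ a

/-- `φ` is conjugate to the standard character `a ↦ a 0 + a 5`, which kills the Levi subsystem `D₄ A₂` on the nodes
`1, 2, 3, 4` and `6, 7` -/
def Std {r : ℕ} (φ : Lat 8 →+ ZMod r) : Prop := ∃ w : W8, ∀ a, φ (wa tE8 w a) = ((a 0 + a 5 : ℤ) : ZMod r)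

/-- the component `A₂` of the type `D₄ A₂` -/
structure T8 (φ : Lat 8 →+ ZMod 7) (c c' : Lat 8) : Prop where
  p2 : P2 tE8 c c'
  k1 : φ c = 0
  k2 : φ c' = 0
  orth : ∀ a ∈ Psi tE8 φ, a ∈ A2s c c' ∨ (cp tE8 a c = 0 ∧ cp tE8 a c' = 0)
  pos : ∀ w e, Eg w φ e → e ^ 3 = 1 → ActA2 tE8 (wa tE8 w) 1 c c'
  neg : ∀ w, Eg w φ (-1) → ActA2 tE8 (wa tE8 w) (-1) c c'

/-! ### The root lattice -/

/-- [NF] the only character of prime order `≥ 7` with `K1` that is conjugate to its double -/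
def BoxNF : Prop := ∀ r : ℕ, r.Prime → 7 ≤ r → ∀ (φ : Lat 8 →+ ZMod r) (w : W8), φ ≠ 0 → K1 tE8 2 (Psi tE8 φ) →
  Eg w φ 2 → r = 7 ∧ Std φ

/-- [L2] -/
def BoxL2 : Prop := ∀ φ : Lat 8 →+ ZMod 7, Std φ → ∃ c c', T8 φ c c'

/-- [L3] a plane of standard characters kills no root -/
def BoxL3 : Prop := ∀ A B : Lat 8 →+ ZMod 7, (∀ i j : ℕ, i < 7 → j < 7 → (i ≠ 0 ∨ j ≠ 0) → Std (i • A + j • B)) →
  ∀ a, Rt tE8 a → A a = 0 → B a ≠ 0

/-- [L4] -/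
def BoxL4 : Prop := ∀ (A B : Lat 8 →+ ZMod 7) (w : W8) (c c' : Lat 8), Std A → Std (A + B) → T8 (A + B) c c' →
  w ∈ WW tE8 (Psi tE8 A) → (Eg w B 2 ∨ Eg w B 4) → B ≠ 0 → ¬ (A c = 0 ∧ A c' = 0)

/-- the lattice boxes -/
structure BoxLat : Prop where
  nf : BoxNF
  l2 : BoxL2
  l3 : BoxL3
  l4 : BoxL4

/-! ### The primes `≥ 7` -/

/-- [S7a] -/
def BoxS7a : Prop := Big → BoxLat → ∀ (L : Type) [Group L] [Finite L] (E : F8 L), E.e = 1 →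
  ∀ (U : Type) [Group U] [Finite U] (τ α β : U →* L) (R R' : Subgroup L), Core τ α β R R' →
  ∀ r : ℕ, r.Prime → 7 ≤ r → r ∣ Nat.card U →
    ∃ u v : U, orderOf u = 7 ∧ (v * u * v⁻¹ = u⁻¹ ∨ v * u * v⁻¹ = u ^ 2)

/-- [S7b] -/
def BoxS7b : Prop := Big → BoxLat → ∀ (L : Type) [Group L] [Finite L] (E : F8 L), E.e = 1 →
  ∀ (U : Type) [Group U] [Finite U] (τ α β : U →* L) (R R' : Subgroup L), Core τ α β R R' →
  ∀ u v : U, orderOf u = 7 → v * u * v⁻¹ ≠ u⁻¹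

/-- [S7c] -/
def BoxS7c : Prop := Big → BoxLat → ∀ (L : Type) [Group L] [Finite L] (E : F8 L), E.e = 1 →
  ∀ (U : Type) [Group U] [Finite U] (τ α β : U →* L) (R R' : Subgroup L), Core τ α β R R' →
  ∀ u v : U, orderOf u = 7 → v * u * v⁻¹ ≠ u ^ 2

/-! ### The group `E₈(2)` -/

/-- [Fr] the standard frame -/
def BoxFr : Prop := ∃ E : F8 E2, E.e = 1 ∧ ∀ x, E.ι x = em x

/-- [Five] -/
def BoxFive : Prop := Big → ∀ (U : Type) [Group U] [Finite U] (τ α β : U →* E2) (R R' : Subgroup E2),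
  Core τ α β R R' → ∀ u : U, orderOf u = 5 → cf (τ u) = 48

/-- [Inn] -/
def BoxInn : Prop := ∀ θ : MulAut E2, ∃ g : E2, ∀ x, θ x = g * x * g⁻¹

/-- [N33] no group `3 ^ 3` centralizes an element of type `A₄ A₄` -/
def BoxN33 : Prop := ∀ (x : E2) (P : Subgroup E2), x ^ 5 = 1 → cf x = 48 → (∀ g ∈ P, g ^ 3 = 1) →
  (∀ g ∈ P, ∀ h ∈ P, g * h = h * g) → (∀ g ∈ P, g * x = x * g) → Nat.card P ≤ 9

/-- [T38] the rational group `3 ^ 8` -/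
def BoxT38 : Prop := ∀ y : Fin 4 → E2, Quad y 92 80 → ∃ T : Subgroup E2, Nat.card T = 3 ^ 8 ∧ (∀ g ∈ T, g ^ 3 = 1) ∧
  (∀ g ∈ T, ∀ h ∈ T, g * h = h * g) ∧ (∀ g ∈ T, ∀ i, g * y i = y i * g) ∧
  ∀ v : LK, (∀ i, rE (y i) v = v) → ∀ g ∈ T, rE g v = v

/-- two commuting embeddings whose product is conjugate to the first one up to an automorphism -/
structure C2 {U : Type} [Group U] (α β : U →* E2) : Prop where
  ainj : Function.Injective α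
  binj : Function.Injective β
  ab : ∀ u v, α u * β v = β v * α u
  cmp : ∃ ψ : MulAut U, ∀ u, cf (α u) = cf (α (ψ u) * β (ψ u))
  five : ∀ u, orderOf u = 5 → cf (α u) = 48

/-- [Num] the classes for `A₆` -/
def BoxNum : Prop := ∀ α β : A6 →* E2, C2 α β →
  (∃ φ : E82.F5.A5 →* A6, φ E82.F5.x5 ≠ 1 ∧ c2 (β (φ E82.F5.x5)) (α (φ E82.F5.x5)) = 8) ∧
  ∃ h h' : A6, Quad ![α h, α h', β h, β h'] 92 80

/-- [Vec] the fixed vector; `φ` is any embedding of `A₅` -/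
def BoxVec : Prop := ∀ (U : Type) [Group U] (α β : U →* E2) (R' : Subgroup E2) (φ : E82.F5.A5 →* U),
  (∀ u, ∀ r ∈ R', α u * r = r * α u) → (∀ u, β u ∈ R') → cf (α (φ E82.F5.x5)) = 48 →
  c2 (β (φ E82.F5.x5)) (α (φ E82.F5.x5)) = 8 → ∃ s : LK, s ≠ 0 ∧ (∀ u, rE (α u) s = s) ∧ ∀ r ∈ R', rE r s = s

/-- all boxes -/
structure Boxes : Prop where
  lat : BoxLat
  s7a : BoxS7a
  s7b : BoxS7b
  s7c : BoxS7c
  fr : BoxFr
  five : BoxFive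
  inn : BoxInn
  n33 : BoxN33
  t38 : BoxT38
  num : BoxNum
  vec : BoxVec

end Cfsg.Agent.Cam.Q2
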