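import Cfsg.Agent.Cam.Q2.Iface
import Cfsg.Agent.Cam.Q2.NFTab
import Cfsg.Agent.Cam.Ex.U3
import Cfsg.Agent.Cam.Ex.Fin5

/-!
# S3690, `E₈(2)`: the boxes `L2` and `L3` (helper66)

The standard character `a ↦ a 0 + a 5` modulo seven kills the roots of `D₄ A₂`.
-/

set_option autoImplicit false
set_option linter.unusedVariables false
set_option linter.style.longLine false
set_option maxRecDepth 100000

namespace Cfsg.Agent.Cam.Q2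

namespace L23

open CoxeterSystem Cfsg Cfsg.Lie
open Cfsg.Agent.ChevalleyStructure.CoxeterGeom Cfsg.Agent.ChevalleyStructure.CoxeterGeomTypes
open Cfsg.Agent.Tits.Roots Cfsg.Agent.Nodes.RGDChev Cfsg.Agent.Nodes.Coroot Cfsg.Agent.Nodes.SubComb
open Cfsg.Agent.H931.KC (hr psi psi_apply psi_sr eq_psi)
open Cfsg.Agent.BpExc.Fr (repAut)
open Cfsg.Agent.Cam.Ex (Lat Rt wa cp WW Psi A2s ActA2 tE8 finite_Rt)
open Cfsg.Agent.Cam.Ex.Cb Cfsg.Agent.Cam.Ex.Cb.Ub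
open Cfsg.Agent.Cam.Ex.SL3 (ev P2 Bv dl)
open Cfsg.Agent.Cam.Q2.NF (dE8 tabE8)

theorem negE8 : negchk 8 dE8 [0, 1, 2, 0, 3, 1, 2, 0, 3, 2, 4, 3, 1, 2, 0, 3, 2, 4, 3, 1, 5, 4, 3, 1, 2, 0, 3, 2, 4, 3, 1, 5, 4, 3, 2, 0, 6, 5, 4, 3, 1, 2, 0, 3, 2, 4, 3, 1, 5, 4, 3, 2, 0, 6, 5, 4, 3, 1, 2, 3, 4, 5, 6, 7, 6, 5, 4, 3, 1, 2, 0, 3, 2, 4, 3, 1, 5, 4, 3, 2, 0, 6, 5, 4, 3, 1, 2, 3, 4, 5, 6, 7, 6, 5, 4, 3, 1, 2, 0, 3, 2, 4, 3, 1, 5, 4, 3, 2, 0, 6, 5, 4, 3, 1, 2, 3, 4, 5, 6, 7] = true := by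
  decide +kernel

theorem exists_negE8 : ∃ w : W8, ∀ a, wa tE8 w a = -a := ⟨_, tabE8.neg_word negE8⟩

/-- the standard character -/
def S0 (φ : Lat 8 →+ ZMod 7) : Prop := ∀ a, φ a = ((a 0 + a 5 : ℤ) : ZMod 7)

/-- the roots of `D₄` -/
def InD (a : Lat 8) : Prop := Rt tE8 a ∧ a 0 = 0 ∧ a 5 = 0 ∧ a 6 = 0 ∧ a 7 = 0

theorem Std.s0 {φ : Lat 8 →+ ZMod 7} (h : Std φ) : ∃ w, S0 (cw tE8 φ w) := h

theorem cp6 (b : Lat 8) : cp tE8 b (sr 6) = -b 5 + 2 * b 6 - b 7 := by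
  rw [cp_sr, ← tabE8.car, psi_apply, Fin.sum_univ_eight]
  change b 0 * 0 + b 1 * 0 + b 2 * 0 + b 3 * 0 + b 4 * 0 + b 5 * (-1) + b 6 * 2 + b 7 * (-1) = _
  ring

theorem cp7 (b : Lat 8) : cp tE8 b (sr 7) = -b 6 + 2 * b 7 := by
  rw [cp_sr, ← tabE8.car, psi_apply, Fin.sum_univ_eight]
  change b 0 * 0 + b 1 * 0 + b 2 * 0 + b 3 * 0 + b 4 * 0 + b 5 * 0 + b 6 * (-1) + b 7 * 2 = _
  ring

theorem p67 : P2 tE8 (sr 6) (sr 7) :=
  ⟨rt_sr tE8 6, rt_sr tE8 7, by rw [cp7]; decide, by rw [cp6]; decide⟩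

theorem InD.neg {a : Lat 8} (h : InD a) : InD (-a) :=
  ⟨h.1.neg, neg_eq_zero.2 h.2.1, neg_eq_zero.2 h.2.2.1, neg_eq_zero.2 h.2.2.2.1, neg_eq_zero.2 h.2.2.2.2⟩

theorem InD.orth {a : Lat 8} (h : InD a) : cp tE8 a (sr 6) = 0 ∧ cp tE8 a (sr 7) = 0 := by
  rw [cp6, cp7, h.2.2.1, h.2.2.2.1, h.2.2.2.2]
  exact ⟨rfl, rfl⟩

/-- the test for `D₄` -/
noncomputable def isD (e : Ent) : Bool :=
  ieq (gt e.b 0) 0 && (ieq (gt e.b 5) 0 && (ieq (gt e.b 6) 0 && ieq (gt e.b 7) 0))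

theorem inD_of {e : Ent} (he : e ∈ dE8.T) (h : isD e = true) : InD (toF 8 e.b) := by
  simp only [isD, Bool.and_eq_true, ieq_iff] at h
  exact ⟨tabE8.rt e he, h⟩

theorem isD_of {e : Ent} (h : InD (toF 8 e.b)) : isD e = true := by
  simp only [isD, Bool.and_eq_true, ieq_iff]
  exact h.2

/-- a root of `D₄` has two orthogonal neighbours -/
theorem InD.two {a : Lat 8} (h : InD a) : ∃ x y, InD x ∧ InD y ∧ cp tE8 x a ≠ 0 ∧ cp tE8 y a ≠ 0 ∧ cp tE8 x y = 0 := by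
  have key : ∀ e ∈ dE8.T, InD (toF 8 e.b) → ∃ x y, InD x ∧ InD y ∧ cp tE8 x (toF 8 e.b) ≠ 0 ∧
      cp tE8 y (toF 8 e.b) ≠ 0 ∧ cp tE8 x y = 0 := by
    intro e he h1
    have h2 : al (fun e => an (fun x => an (fun y => !ieq (dot x.b e.cv) 0 && (!ieq (dot y.b e.cv) 0 &&
      ieq (dot x.b y.cv) 0)) (fl isD dE8.T)) (fl isD dE8.T)) (fl isD dE8.T) = true := by decide +kernel
    obtain ⟨x, hx, h3⟩ := an_iff.1 (al_iff.1 h2 e (mem_fl.2 ⟨he, isD_of h1⟩))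
    obtain ⟨y, hy, h4⟩ := an_iff.1 h3
    rw [mem_fl] at hx hy
    simp only [Bool.and_eq_true, Bool.not_eq_true', ← Bool.not_eq_true, ieq_iff] at h4
    exact ⟨_, _, inD_of hx.1 hx.2, inD_of hy.1 hy.2, by rw [tabE8.cp_b hx.1 he]; exact h4.1,
      by rw [tabE8.cp_b hy.1 he]; exact h4.2.1, by rw [tabE8.cp_b hx.1 hy.1]; exact h4.2.2⟩
  obtain ⟨e, he, rfl | rfl⟩ := tabE8.sur a h.1
  · exact key e he h
  · obtain ⟨x, y, h1, h2, h3, h4, h5⟩ := key e he (by have := h.neg; rwa [neg_neg] at this)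
    exact ⟨x, y, h1, h2, by rwa [cp_neg_right tE8 _ (tabE8.rt e he), neg_ne_zero],
      by rwa [cp_neg_right tE8 _ (tabE8.rt e he), neg_ne_zero], h5⟩

theorem neg_A2s {a c c' : Lat 8} (h : a ∈ A2s c c') : -a ∈ A2s c c' := by
  obtain ⟨i, j, hij, rfl⟩ := Ex.SL3.mem_A2s.1 h
  exact Ex.SL3.mem_A2s.2 ⟨j, i, hij.symm, neg_sub _ _⟩

/-- the Levi subsystem -/
theorem levi {a : Lat 8} (ha : Rt tE8 a) (h0 : a 0 = 0) (h5 : a 5 = 0) : a ∈ A2s (sr 6) (sr 7) ∨ InD a := by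
  revert h0 h5
  refine tabE8.of_T (P := fun a => a 0 = 0 → a 5 = 0 → a ∈ A2s (sr 6) (sr 7) ∨ InD a) (fun a h h0 h5 =>
    (h (neg_eq_zero.1 h0) (neg_eq_zero.1 h5)).imp neg_A2s InD.neg) (fun e he h0 h5 => ?_) a ha
  rcases (by decide +kernel : ∀ e ∈ dE8.T, gt e.b 0 = 0 → gt e.b 5 = 0 → toF 8 e.b = sr 6 ∨ toF 8 e.b = sr 7 ∨
    toF 8 e.b = sr 6 + sr 7 ∨ isD e = true) e he h0 h5 with h | h | h | h
  · exact Or.inl (Or.inl h)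
  · exact Or.inl (Or.inr (Or.inl h))
  · exact Or.inl (Or.inr (Or.inr (Or.inl h)))
  · exact Or.inr (inD_of he h)

theorem dl_ne : ∀ i j m n : Fin 3, i ≠ j → m ≠ n → dl i m - dl i n - (dl j m - dl j n) ≠ 0 := by decide

theorem cp_A2s {c c' : Lat 8} (h : P2 tE8 c c') {x z : Lat 8} (h1 : cp tE8 x c = 0) (h2 : cp tE8 x c' = 0)
    (hz : z ∈ A2s c c') : cp tE8 x z = 0 := by
  obtain ⟨i, j, hij, rfl⟩ := Ex.SL3.mem_A2s.1 hz
  have h3 : ∀ k, Bv tE8 c c' x k = 0 := fun k => by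
    fin_cases k
    · show cp tE8 x c + cp tE8 x c' = 0
      rw [h1, h2, add_zero]
    · exact h2
    · rfl
  rw [(h.right hij x).2, h3, h3, sub_self]

/-- a root of a component `A₂` does not have two orthogonal neighbours -/
theorem not_comp {c c' : Lat 8} (h : P2 tE8 c c') {S : Set (Lat 8)}
    (orth : ∀ a ∈ S, a ∈ A2s c c' ∨ (cp tE8 a c = 0 ∧ cp tE8 a c' = 0)) {x y z : Lat 8} (hz : z ∈ A2s c c')
    (hx : x ∈ S) (hy : y ∈ S) (h1 : cp tE8 x z ≠ 0) (h2 : cp tE8 y z ≠ 0) (h3 : cp tE8 x y = 0) : False := by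
  obtain ⟨i, j, hij, rfl⟩ := Ex.SL3.mem_A2s.1 ((orth x hx).resolve_right fun h4 => h1 (cp_A2s h h4.1 h4.2 hz))
  obtain ⟨m, n, hmn, rfl⟩ := Ex.SL3.mem_A2s.1 ((orth y hy).resolve_right fun h4 => h2 (cp_A2s h h4.1 h4.2 hz))
  rw [cp_ev h _ _ hmn] at h3
  exact dl_ne i j m n hij hmn h3

/-- the restricted roots -/
def r05 : List (ℤ × ℤ) := [(0, 1), (1, 1), (1, 2), (1, 0), (1, 3), (2, 3), (0, 2), (2, 2), (2, 4),
  (0, -1), (-1, -1), (-1, -2), (-1, 0), (-1, -3), (-2, -3), (0, -2), (-2, -2), (-2, -4)]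

theorem R05 : RROK tE8 0 5 r05 := tabE8.rrok (by decide) (by decide +kernel)

theorem chk05 : al (fun p => al (fun q => !cand dE8 0 5 r05 p q ||
    (!(zr 7 ((q.1 + q.2) * (q.1 + q.2) * (q.1 + q.2) - 1)) || zr 3 (q.2 - 1))) r05) r05 = true := by
  decide +kernel

variable {φ : Lat 8 →+ ZMod 7}

theorem S0.ex (h : S0 φ) : Ex2 tE8 φ 0 5 := by
  refine tabE8.of_T (P := fun a => φ a = 0 ↔ a 0 = 0 ∧ a 5 = 0) (fun a h => ?_) fun e he => ?_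
  · rw [map_neg, neg_eq_zero, Pi.neg_apply, Pi.neg_apply, neg_eq_zero, neg_eq_zero]
    exact h
  · rw [h, ZMod.intCast_zmod_eq_zero_iff_dvd]
    exact (by decide +kernel : ∀ e ∈ dE8.T, ((7 : ℕ) : ℤ) ∣ gt e.b 0 + gt e.b 5 ↔ gt e.b 0 = 0 ∧ gt e.b 5 = 0) e he

theorem S0.card (h : S0 φ) : (Psi tE8 φ).ncard = 30 := by
  rw [tabE8.ncard_eq φ (P := fun e => ieq (gt e.b 0) 0 && ieq (gt e.b 5) 0) fun e he => by
    rw [h.ex _ (tabE8.rt e he), Bool.and_eq_true, ieq_iff, ieq_iff]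
    rfl]
  decide +kernel

theorem Std.card (h : Std φ) : (Psi tE8 φ).ncard = 30 := by
  obtain ⟨w, h1⟩ := Std.s0 h
  rw [← ncard_cw tE8 φ w, h1.card]

theorem S0.split (h : S0 φ) {a : Lat 8} (ha : a ∈ Psi tE8 φ) : a ∈ A2s (sr 6) (sr 7) ∨ InD a :=
  levi ha.1 ((h.ex a ha.1).1 ha.2).1 ((h.ex a ha.1).1 ha.2).2

theorem S0.inD (h : S0 φ) {a : Lat 8} (ha : InD a) : a ∈ Psi tE8 φ := ⟨ha.1, (h.ex a ha.1).2 ⟨ha.2.1, ha.2.2.1⟩⟩

theorem S0.k6 (h : S0 φ) : φ (sr 6) = 0 := by rw [h]; rfl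

theorem S0.k7 (h : S0 φ) : φ (sr 7) = 0 := by rw [h]; rfl

theorem S0.orth (h : S0 φ) (a : Lat 8) (ha : a ∈ Psi tE8 φ) :
    a ∈ A2s (sr 6) (sr 7) ∨ (cp tE8 a (sr 6) = 0 ∧ cp tE8 a (sr 7) = 0) := (h.split ha).imp id InD.orth

theorem mem_Psi {c c' : Lat 8} (h : P2 tE8 c c') (h1 : φ c = 0) (h2 : φ c' = 0) {a : Lat 8} (ha : a ∈ A2s c c') :
    a ∈ Psi tE8 φ := by
  have : Fact (Nat.Prime 7) := ⟨by norm_num⟩
  have h3 : ∀ i, φ (ev c c' i) = 0 := kill_ev (K := ZMod 7) h1 h2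
  obtain ⟨i, j, hij, rfl⟩ := Ex.SL3.mem_A2s.1 ha
  exact ⟨(h.right hij 0).1, by rw [map_sub, h3, h3, sub_self]⟩

theorem S0.stab (h : S0 φ) {w : W8} {e : ZMod 7} (hw : Eg w φ e) (he : e ^ 3 = 1) {z : Lat 8}
    (hz : z ∈ A2s (sr 6) (sr 7)) : wa tE8 w z ∈ A2s (sr 6) (sr 7) := by
  have h1 := mem_Psi p67 h.k6 h.k7 hz
  refine (h.split ⟨h1.1.act w, by rw [hw, h1.2, mul_zero]⟩).resolve_right fun h2 => ?_
  obtain ⟨x, y, hx, hy, h3, h4, h5⟩ := h2.two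
  have h6 : ∀ x, InD x → wa tE8 w⁻¹ x ∈ Psi tE8 φ := fun x hx => ⟨hx.1.act _, by
    have h7 := hw (wa tE8 w⁻¹ x)
    rw [wa_inv', (h.inD hx).2] at h7
    linear_combination (-e ^ 2) * h7 - φ (wa tE8 w⁻¹ x) * he⟩
  refine not_comp p67 h.orth hz (h6 x hx) (h6 y hy) ?_ ?_ ?_
  · rwa [← cp_wa tE8 w _ h1.1, wa_inv']
  · rwa [← cp_wa tE8 w _ h1.1, wa_inv']
  · rwa [cp_wa tE8 _ _ hy.1]

theorem S0.pos (h : S0 φ) {w : W8} {e : ZMod 7} (hw : Eg w φ e) (he : e ^ 3 = 1) :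
    ActA2 tE8 (wa tE8 w) 1 (sr 6) (sr 7) := by
  have : Fact (Nat.Prime 7) := ⟨by norm_num⟩
  obtain ⟨p, hp, q, hq, h1, h2, -, h3⟩ := tabE8.res2 R05 h.ex (repAut _ tE8.isCartan w) (rt_wa tE8 w) hw
  have h4 := al_iff.1 (al_iff.1 chk05 p hp) q hq
  have e0 : φ (sr 0) = 1 := by rw [h]; rfl
  have e5 : φ (sr 5) = 1 := by rw [h]; rfl
  rw [e0, e5, mul_one, mul_one, mul_one] at h3
  have h5 : zr 7 ((q.1 + q.2) * (q.1 + q.2) * (q.1 + q.2) - 1) = true := by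
    rw [zr_iff]
    refine (ZMod.intCast_zmod_eq_zero_iff_dvd _ 7).1 ?_
    push_cast
    rw [h3]
    linear_combination he
  have h1' : cand dE8 0 5 r05 p q = true := h1
  rw [h1', h5, Bool.not_true, Bool.false_or, Bool.false_or, zr_iff] at h4
  have h6 : wa tE8 w (sr 5) 5 = 0 * p.2 + 1 * q.2 := (h2 (sr 5)).2
  have h7 : cp tE8 (sr 5) (sr 6) - cp tE8 (sr 5) (sr 7) = -1 := by rw [cp6, cp7]; decide
  obtain ⟨τ, hτ⟩ := act_perm p67 (f := repAut _ tE8.isCartan w) (h.stab hw he (Or.inl rfl))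
    (h.stab hw he (Or.inr (Or.inl rfl))) (fun a b hb => cp_wa tE8 w a hb) (b := sr 5) (by rw [h7]; decide) (by
      rw [h7]
      show (3 : ℤ) ∣ cp tE8 (wa tE8 w (sr 5)) (sr 6) - cp tE8 (wa tE8 w (sr 5)) (sr 7) - -1
      rw [cp6, cp7]
      omega)
  obtain ⟨v, hv, h8⟩ := exists_WW p67 τ
  refine ⟨v, hv, fun a ha => ?_⟩
  obtain ⟨i, j, hij, rfl⟩ := Ex.SL3.mem_A2s.1 ha
  rw [Units.val_one, one_smul, h8]
  exact hτ i j

theorem S0.t8 (h : S0 φ) : T8 φ (sr 6) (sr 7) where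
  p2 := p67
  k1 := h.k6
  k2 := h.k7
  orth := h.orth
  pos w e hw he := h.pos hw he
  neg w hw := by
    obtain ⟨w0, h0⟩ := exists_negE8
    obtain ⟨v, hv, h1⟩ := h.pos (w := w * w0) (e := 1) (fun a => by
      rw [wa_mul, h0, wa_neg, map_neg, hw, neg_one_mul, neg_neg, one_mul]) (one_pow 3)
    refine ⟨v, hv, fun a ha => ?_⟩
    have h2 := h1 a ha
    rw [wa_mul, h0, wa_neg, Units.val_one, one_smul] at h2
    rw [Units.val_neg, Units.val_one, neg_one_smul, ← h2, neg_neg]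

theorem Eg.conj {v : W8} {e : ZMod 7} (h : Eg v φ e) (w : W8) : Eg (w⁻¹ * v * w) (cw tE8 φ w) e := fun a => by
  rw [cw_apply, cw_apply, wa_mul, wa_mul, wa_inv', h]

theorem T8.act {w : W8} {c c' : Lat 8} (T : T8 (cw tE8 φ w) c c') : T8 φ (wa tE8 w c) (wa tE8 w c') where
  p2 := ⟨T.p2.r1.act w, T.p2.r2.act w, (cp_wa tE8 w _ T.p2.r2).trans T.p2.c1, (cp_wa tE8 w _ T.p2.r1).trans T.p2.c2⟩
  k1 := T.k1
  k2 := T.k2
  orth a ha := by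
    rcases T.orth (wa tE8 w⁻¹ a) (by rw [mem_cw, wa_inv']; exact ha) with h1 | h1
    · left
      have := wa_A2s (hp := tE8) (w := w) h1
      rwa [wa_inv'] at this
    · right
      rwa [← cp_wa tE8 w _ T.p2.r1, ← cp_wa tE8 w _ T.p2.r2, wa_inv'] at h1
  pos v e hv he := act_of (fun a => by rw [wa_mul, wa_mul]) (T.pos _ e (Eg.conj hv w) he)
  neg v hv := act_of (fun a => by rw [wa_mul, wa_mul]) (T.neg _ (Eg.conj hv w))

theorem card_rt : {a | Rt tE8 a}.ncard = 240 := by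
  have h : {a | Rt tE8 a} = Psi tE8 (0 : Lat 8 →+ ZMod 7) := Set.ext fun a => ⟨fun h => ⟨h, rfl⟩, fun h => h.1⟩
  rw [h, tabE8.ncard_eq (0 : Lat 8 →+ ZMod 7) (P := fun _ => true) fun e _ => ⟨fun _ => rfl, fun _ => rfl⟩]
  decide +kernel

theorem line7 : ∀ x y : ZMod 7, y = 0 ∨ ∃ k : Fin 7, x + (k : ℕ) • y = 0 := by decide

end L23

open L23 Cfsg.Agent.Cam.Ex Cfsg.Agent.Cam.Ex.Cb in
theorem boxL2 : BoxL2 := fun φ h => by
  obtain ⟨w, h1⟩ := Std.s0 h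
  exact ⟨_, _, T8.act h1.t8⟩

open L23 Cfsg.Agent.Cam.Ex Cfsg.Agent.Cam.Ex.Cb in
theorem boxL3 : BoxL3 := by
  classical
  intro A B h a ha hA hB
  let f : Option (Fin 7) → Lat 8 →+ ZMod 7 := fun k => k.elim (0 • A + 1 • B) fun k => 1 • A + (k : ℕ) • B
  have h1 : ∀ k, (Psi tE8 (f k)).ncard = 30 := by
    rintro (_ | k)
    · exact Std.card (h 0 1 (by norm_num) (by norm_num) (Or.inr one_ne_zero))
    · exact Std.card (h 1 k (by norm_num) k.2 (Or.inl one_ne_zero))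
  have h2 : ∀ k, a ∈ Psi tE8 (f k) := by
    rintro (_ | k)
    · exact ⟨ha, by simp [f, hB]⟩
    · exact ⟨ha, by simp [f, hA, hB]⟩
  have fin : ∀ k, (Psi tE8 (f k)).Finite := fun k => (finite_Rt tE8).subset fun a ha => ha.1
  have h3 : (finite_Rt tE8).toFinset.erase a ⊆ Finset.univ.biUnion fun k => (fin k).toFinset.erase a := by
    intro b hb
    rw [Finset.mem_erase, Set.Finite.mem_toFinset] at hb
    rw [Finset.mem_biUnion]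
    rcases line7 (A b) (B b) with h4 | ⟨k, h4⟩
    · exact ⟨none, Finset.mem_univ _, Finset.mem_erase.2 ⟨hb.1, (fin _).mem_toFinset.2 ⟨hb.2, by simp [f, h4]⟩⟩⟩
    · exact ⟨some k, Finset.mem_univ _, Finset.mem_erase.2 ⟨hb.1, (fin _).mem_toFinset.2 ⟨hb.2, by simpa [f] using h4⟩⟩⟩
  have h4 := (Finset.card_le_card h3).trans (Finset.card_biUnion_le_card_mul _ _ 29 fun k _ => by
    rw [Finset.card_erase_of_mem ((fin k).mem_toFinset.2 (h2 k)), ← Set.ncard_eq_toFinset_card _ (fin k), h1])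
  rw [Finset.card_erase_of_mem ((finite_Rt tE8).mem_toFinset.2 ha), ← Set.ncard_eq_toFinset_card _ (finite_Rt tE8),
    card_rt, Finset.card_univ, Fintype.card_option, Fintype.card_fin] at h4
  omega

end Cfsg.Agent.Cam.Q2
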