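import Cfsg.Agent.Cam.Q2.Iface
import Cfsg.Agent.E82.F5.Row44

/-!
# `E₈(2)`: elements of order three in the centralizer of an element of type `A₄ A₄` (helper69)
-/

set_option autoImplicit false
set_option linter.unusedVariables false

namespace Cfsg.Agent.Cam.Q2.N33

open Cfsg Cfsg.Lie Subgroup
open Cfsg.Agent.H939.L64 (E2)
open Cfsg.Agent.E82 (cf qe par fd_one fd_conj fd_inv)
open Cfsg.Agent.E82.F5 (ty48)

set_option synthInstance.maxSize 4000 in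
set_option synthInstance.maxHeartbeats 200000 in
theorem plane : ∀ A : ZMod 3, A ≠ 0 → ∀ B : ZMod 3, B ≠ 0 → ∀ C : ZMod 3, C ≠ 0 →
    ∀ p : ZMod 3, p ≠ 0 → ∀ p' : ZMod 3, p' ≠ 0 → p + p' = 2 * (A + B) →
    ∀ r : ZMod 3, r ≠ 0 → ∀ r' : ZMod 3, r' ≠ 0 → r + r' = 2 * (A + C) →
    ∀ s : ZMod 3, s ≠ 0 → ∀ s' : ZMod 3, s' ≠ 0 → s + s' = 2 * (B + C) →
    ∀ t₁ : ZMod 3, t₁ ≠ 0 → ∀ t₂ : ZMod 3, t₂ ≠ 0 → t₁ + t₂ = 2 * (p + C) →
    ∀ t₃ : ZMod 3, t₃ ≠ 0 → t₁ + t₃ = 2 * (r + B) → t₂ + t₃ = 2 * (A + s') →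
    ∀ t₄ : ZMod 3, t₄ ≠ 0 → t₁ + t₄ = 2 * (A + s) → t₃ + t₄ ≠ 2 * (p' + C) := by decide +kernel

/-- an anisotropic function with the parallelogram law -/
theorem card_le {A : Type} [CommGroup A] [Finite A] (h3 : ∀ g : A, g ^ 3 = 1) (q : A → ZMod 3)
    (h0 : ∀ g, g ≠ 1 → q g ≠ 0) (hp : ∀ g h, q (g * h) + q (g * h⁻¹) = 2 * (q g + q h)) : Nat.card A ≤ 9 := by
  classical
  by_contra hc
  have := Fintype.ofFinite A
  rw [Nat.card_eq_fintype_card, not_le] at hc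
  have ex : ∀ s : Finset A, s.card ≤ 9 → ∃ g, g ∉ s := fun s hs => by
    by_contra h
    push Not at h
    have h1 := Finset.card_le_card (s := Finset.univ) (t := s) fun g _ => h g
    rw [Finset.card_univ] at h1
    omega
  obtain ⟨a, ha⟩ := ex {1} (by simp)
  obtain ⟨b, hb⟩ := ex {1, a, a⁻¹} (Finset.card_le_three.trans (by norm_num))
  obtain ⟨c, hc'⟩ := ex ((({1, a, a⁻¹} : Finset A) ×ˢ ({1, b, b⁻¹} : Finset A)).image fun x => x.1 * x.2)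
    (Finset.card_image_le.trans (by
      rw [Finset.card_product]
      exact Nat.mul_le_mul Finset.card_le_three Finset.card_le_three))
  simp only [Finset.mem_insert, Finset.mem_singleton, not_or] at ha hb
  have k : ∀ x y : A, (x = 1 ∨ x = a ∨ x = a⁻¹) → (y = 1 ∨ y = b ∨ y = b⁻¹) → x * y * c ≠ 1 ∧ x * y * c⁻¹ ≠ 1 := by
    have k1 : ∀ x y : A, (x = 1 ∨ x = a ∨ x = a⁻¹) → (y = 1 ∨ y = b ∨ y = b⁻¹) → c ≠ x * y := fun x y hx hy e =>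
      hc' (Finset.mem_image.2 ⟨(x, y), by simpa using ⟨hx, hy⟩, e.symm⟩)
    intro x y hx hy
    refine ⟨fun e => k1 x⁻¹ y⁻¹ ?_ ?_ ?_, fun e => k1 x y hx hy (mul_inv_eq_one.1 e).symm⟩
    · rcases hx with rfl | rfl | rfl <;> simp
    · rcases hy with rfl | rfl | rfl <;> simp
    · rw [← mul_inv, eq_inv_of_mul_eq_one_right e]
  have o : (1 : A) = 1 ∨ 1 = a ∨ 1 = a⁻¹ := Or.inl rfl
  have o' : (1 : A) = 1 ∨ 1 = b ∨ 1 = b⁻¹ := Or.inl rfl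
  have ia : a = 1 ∨ a = a ∨ a = a⁻¹ := Or.inr (Or.inl rfl)
  have ib : b = 1 ∨ b = b ∨ b = b⁻¹ := Or.inr (Or.inl rfl)
  have ib' : b⁻¹ = 1 ∨ b⁻¹ = b ∨ b⁻¹ = b⁻¹ := Or.inr (Or.inr rfl)
  refine plane (q a) (h0 _ ha) (q b) (h0 _ hb.1) (q c) (h0 _ (by simpa using (k 1 1 o o').1))
    (q (a * b)) (h0 _ fun e => hb.2.2 (eq_inv_of_mul_eq_one_right e))
    (q (a * b⁻¹)) (h0 _ fun e => hb.2.1 (mul_inv_eq_one.1 e).symm) (hp a b)
    (q (a * c)) (h0 _ (by simpa using (k a 1 ia o').1)) (q (a * c⁻¹)) (h0 _ (by simpa using (k a 1 ia o').2)) (hp a c)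
    (q (b * c)) (h0 _ (by simpa using (k 1 b o ib).1)) (q (b * c⁻¹)) (h0 _ (by simpa using (k 1 b o ib).2)) (hp b c)
    (q (a * b * c)) (h0 _ (k a b ia ib).1) (q (a * b * c⁻¹)) (h0 _ (k a b ia ib).2) (hp (a * b) c)
    (q (a * b⁻¹ * c)) (h0 _ (k a b⁻¹ ia ib').1) ?_ ?_ (q (a * b⁻¹ * c⁻¹)) (h0 _ (k a b⁻¹ ia ib').2) ?_ (hp (a * b⁻¹) c)
  · rw [← hp (a * c) b, mul_right_comm a c b, mul_right_comm a c b⁻¹]
  · rw [← hp a (b * c⁻¹), mul_inv, inv_inv, mul_assoc, mul_assoc]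
  · rw [← hp a (b * c), mul_inv, mul_assoc, mul_assoc]

theorem ne_one_of {x : E2} (h : cf x = 48) : x ≠ 1 := fun e => by
  rw [e, fd_one] at h
  omega

theorem cf_cases {y x : E2} (hy : y ^ 3 = 1) (hx : x ^ 5 = 1) (hc : y * x = x * y) (y1 : y ≠ 1) (h : cf x = 48) :
    cf y = 80 ∨ cf y = 92 :=
  (ty48 hy hx hc y1 (ne_one_of h) h).imp (fun h => h.2) fun h => h.2

theorem q_ne {y x : E2} (hy : y ^ 3 = 1) (hx : x ^ 5 = 1) (hc : y * x = x * y) (y1 : y ≠ 1) (h : cf x = 48) :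
    qe (cf y) ≠ 0 := by
  rcases cf_cases hy hx hc y1 h with h | h <;> rw [h] <;> decide

theorem two_inj : ∀ a b : ZMod 3, a + a = 2 * b → a = b := by decide

/-- the index of a product -/
theorem idx {a b n : E2} (ha : a ^ 3 = 1) (hb : b ^ 3 = 1) (hc : a * b = b * a) (h1 : n * a = a * n)
    (h2 : n * b * n⁻¹ = b⁻¹) : qe (cf (a * b)) = qe (cf a) + qe (cf b) := by
  have h3 := par ha hb hc
  have h4 : a * b⁻¹ = n * (a * b) * n⁻¹ := by rw [← h2, ← mul_assoc n, h1]; group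
  rw [h4, fd_conj] at h3
  exact two_inj _ _ h3

/-- **BoxN33** -/
theorem boxN33 : BoxN33 := by
  intro x P hx h48 h3 hc hP
  have : Finite E2 := E82.finite_E2
  let _ : CommGroup P := { (inferInstance : Group P) with mul_comm := fun a b => Subtype.ext (hc a a.2 b b.2) }
  exact card_le (A := P) (fun g => Subtype.ext (h3 g g.2)) (fun g => qe (cf g))
    (fun g hg => q_ne (h3 g g.2) hx (hP g g.2) (fun e => hg (Subtype.ext e)) h48)
    fun g h => par (h3 g g.2) (h3 h h.2) (hc g g.2 h h.2)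

end Cfsg.Agent.Cam.Q2.N33
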