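import Cfsg.Agent.Cam.Q2.Iface
import Cfsg.Agent.Cam.Ex.PBox
import Cfsg.Agent.Cam.Ex.E2A

/-!
# S3690, the group `E₈(2)`: no real element of order seven (helper91)
-/

set_option autoImplicit false
set_option linter.unusedVariables false
set_option maxRecDepth 100000
set_option maxHeartbeats 400000

namespace Cfsg.Agent.Cam.Q2.S7b

open CoxeterSystem Cfsg Cfsg.Lie Subgroup
open Cfsg.Agent.ChevalleyStructure.CoxeterGeom Cfsg.Agent.ChevalleyStructure.CoxeterGeomTypes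
open Cfsg.Agent.Tits.Roots Cfsg.Agent.Nodes.BNOf Cfsg.Agent.Nodes.RGDChev Cfsg.Agent.KFacts.RgdChevCoord
open Cfsg.Agent.Cam.Spor Cfsg.Agent.Cam.Ex Cfsg.Agent.Cam.Ex.SL3
open Cfsg.Agent.H428.OT.Lin
open scoped commutatorElement

theorem le_of_pow {L : Type} [Group L] [Finite L] {R C : Subgroup L} (hR : ⁅R, R⁆ = R)
    (hn : ∀ r ∈ R, ∀ c ∈ C, r * c * r⁻¹ ∈ C) (h : ∀ r ∈ R, r ^ 12 ∈ C) : R ≤ C := by
  have hN : (C.subgroupOf R).Normal := ⟨fun c hc r => hn r r.2 c hc⟩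
  have h1 : ⁅(⊤ : Subgroup R), (⊤ : Subgroup R)⁆ = ⊤ := map_injective R.subtype_injective (by
    rw [map_commutator, ← MonoidHom.range_eq_map, range_subtype, hR])
  have h2 : ⁅(⊤ : Subgroup (R ⧸ C.subgroupOf R)), (⊤ : Subgroup (R ⧸ C.subgroupOf R))⁆ = ⊤ := by
    rw [← map_top_of_surjective _ (QuotientGroup.mk'_surjective (C.subgroupOf R)), ← map_commutator, h1]
  have h3 : (⊤ : Subgroup (R ⧸ C.subgroupOf R)) = ⊥ := by
    by_contra h3
    obtain ⟨r, hr, h5, w, -, hw⟩ := E2.exists_five h2 h3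
    obtain ⟨x, rfl⟩ := QuotientGroup.mk'_surjective (C.subgroupOf R) w
    have h4 : r ∣ 2 ^ 2 * 3 := by
      rw [← hw, orderOf_dvd_iff_pow_eq_one, ← map_pow]
      exact (QuotientGroup.eq_one_iff _).2 (h x x.2)
    rcases (Nat.Prime.dvd_mul hr).1 h4 with h6 | h6
    · have := Nat.le_of_dvd two_pos (hr.dvd_of_dvd_pow h6)
      omega
    · have := Nat.le_of_dvd three_pos h6
      omega
  intro x hx
  have h4 : QuotientGroup.mk' (C.subgroupOf R) ⟨x, hx⟩ ∈ (⊥ : Subgroup _) := h3 ▸ mem_top _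
  exact (QuotientGroup.eq_one_iff (N := C.subgroupOf R) ⟨x, hx⟩).1 (mem_bot.1 h4)

section lin

open Matrix

variable {k : Type*} [Field k]

theorem cayley (g : M3 k) : g ^ 3 - g.trace • g ^ 2 + (adjugate g).trace • g - g.det • (1 : M3 k) = 0 := by
  ext i j
  fin_cases i <;> fin_cases j <;>
    simp [pow_succ, mul_apply, Fin.sum_univ_three, trace_fin_three, adjugate_fin_three, det_fin_three] <;> ring

theorem trace_cjS (H : GL (Fin 3) k) (g : S3 k) : (cjS H g : M3 k).trace = (g : M3 k).trace := by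
  rw [coe_cjS, trace_mul_cycle, gl_inv_mul, one_mul]

theorem pow_twelve [CharP k 2] {g : S3 k} {H H' : GL (Fin 3) k} {f : k →+* k} (hf : ∀ x, f x = x ^ 2)
    (h1 : cjS H (ti g) = g) (h2 : cjS H' (mp f g) = g) : g ^ 12 = 1 := by
  have e1 := trace_cjS H (ti g)
  have e2 := trace_cjS H' (mp f g)
  rw [h1, coe_ti, trace_transpose, show ((g⁻¹ : S3 k) : M3 k) = adjugate (g : M3 k) from rfl] at e1
  rw [h2, coe_mp, ← AddMonoidHom.map_trace f, hf] at e2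
  have e3 := cayley (g : M3 k)
  rw [← e1, g.det_coe, one_smul] at e3
  have h3 : (2 : M3 k) = 0 := by
    rw [← one_add_one_eq_two, ← two_smul k, CharTwo.two_eq_zero, zero_smul]
  have h4 : ∀ n : ℕ, ((g ^ n : S3 k) : M3 k) = (g : M3 k) ^ n := fun n => rfl
  apply slext
  rw [h4, cone]
  rcases eq_zero_or_one_of_sq_eq_self e2.symm with h | h <;> rw [h] at e3
  · rw [zero_smul, zero_smul, sub_zero, add_zero, sub_eq_zero] at e3
    rw [show 12 = 3 * 4 from rfl, pow_mul, e3, one_pow]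
  · rw [one_smul, one_smul] at e3
    have e4 : (g : M3 k) ^ 4 = 1 := by
      have e5 : (g : M3 k) ^ 4 - 1 = ((g : M3 k) + 1) * ((g : M3 k) ^ 3 - (g : M3 k) ^ 2 + g - 1) := by noncomm_ring
      rw [← sub_eq_zero, e5, e3, mul_zero]
    rw [show 12 = 4 * 3 from rfl, pow_mul, e4, one_pow]

end lin

theorem ac_pow {k Y : Type*} [Field k] [Group Y] {π : S3 k →* Y} {g : S3 k} {r : Y} (h : Ac π g r) (n : ℕ) :
    Ac π (g ^ n) (r ^ n) := by
  induction n with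
  | zero => rw [pow_zero, pow_zero]; exact Ac.one
  | succ n ih => rw [pow_succ, pow_succ]; exact ih.mul h

theorem cen_abs {k : Type*} [Field k] [CharP k 2] {Y L : Type} [Group Y] [Group L] [Finite L] {π : S3 k →* Y}
    (hker : π.ker ≤ center (S3 k)) (ι : L →* Y) {R : Subgroup L} (hR : ⁅R, R⁆ = R)
    (h3 : ∀ r ∈ R.map ι, ∃ g, Ac π g r) {n : Y} {H : GL (Fin 3) k} (hn : ActT π n H)
    (hnJ : ∀ r ∈ R.map ι, n * r * n⁻¹ = r) {σ : Y →* Y} (hσ : ∀ r ∈ R.map ι, σ r = r) {f : k ≃+* k}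
    (hf : ∀ x, f x = x ^ 2) {H' : GL (Fin 3) k} (hF : ∀ X, σ (π X) = π (cjS H' (mp (f : k →+* k) X))) :
    R ≤ (centralizer (π.range : Set Y)).comap ι := by
  have hJ : ⁅R.map ι, R.map ι⁆ = R.map ι := by rw [← Subgroup.map_commutator, hR]
  have f1 := fix_der hker (σ := (MulAut.conj n).toMonoidHom) (τ := (cjS H).comp ti) ((cjS_surj H).comp ti_surj) hn hnJ
  have f2 := fix_der hker (τ := (cjS H').comp (mp (f : k →+* k))) ((cjS_surj H').comp (mp_surj f)) hF hσ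
  refine le_of_pow hR (fun r hr y hy => ?_) fun r hr => ?_
  · obtain ⟨a, ha⟩ := h3 _ ⟨r, hr, rfl⟩
    rw [mem_comap, mem_centralizer_iff] at hy ⊢
    rintro _ ⟨Z, rfl⟩
    have h11 := ha.inv Z
    rw [inv_inv (ι r)] at h11
    rw [map_mul, map_mul, map_inv]
    calc π Z * (ι r * ι y * (ι r)⁻¹) = ι r * ((ι r)⁻¹ * π Z * ι r * ι y) * (ι r)⁻¹ := by group
      _ = ι r * (ι y * ((ι r)⁻¹ * π Z * ι r)) * (ι r)⁻¹ := by rw [← h11, hy _ ⟨_, rfl⟩]
      _ = _ := by group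
  · obtain ⟨a, ha, h11⟩ := rep_der hJ.ge h3 _ ⟨r, hr, rfl⟩
    have h12 := ac_pow h11 12
    rw [pow_twelve (g := a) (H := H) (H' := H') (f := (f : k →+* k)) hf (f1 a ha) (f2 a ha)] at h12
    rw [mem_comap, mem_centralizer_iff, map_pow]
    rintro _ ⟨Z, rfl⟩
    have h13 := h12 Z
    rwa [one_mul, inv_one, mul_one, eq_mul_inv_iff_mul_eq] at h13

/-- the group `R` centralizes the component -/
theorem cen_of {D : ChevalleyDatum} {l : ℕ} {M : CoxeterMatrix (Fin l)} {hp : IsType D l M} (hG : D ≠ chevG2)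
    (h4 : ∀ i j, M i j ≠ 4) (h6 : ∀ i j, M i j ≠ 6) {d : ℕ} {g0 : Lat l ≃+ Lat l} {L : Type} [Group L] [Finite L]
    (E : Frame hp 2 d g0 L) (he : E.e = 1) {x n : L} {R : Subgroup L} {c c' : Lat l} {r : ℕ} [NeZero r] (hr : r.Prime)
    {ζ : kb 2} (hζ : IsPrimitiveRoot ζ r) {X : Lat l →+ ZMod r} (hX : Chi hp ζ (E.ι x) X) (hn : n * x * n⁻¹ = x⁻¹)
    (hR : ⁅R, R⁆ = R) (hxR : ∀ y ∈ R, x * y = y * x) (hnR : ∀ y ∈ R, n * y = y * n) (h : P2 hp c c')
    (ho : ∀ a ∈ Psi hp X, a ∈ A2s c c' ∨ (cp hp a c = 0 ∧ cp hp a c' = 0))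
    (hw : ∀ w, Neg hp w X → ActA2 hp (wa hp w) (-1) c c') (hA : ActA2 hp E.g 1 c c') : Cen E R (A2s c c') := by
  obtain ⟨π, s, P⟩ := h.exists_pi 2 hG
  have hac : ∀ m ∈ MS D l 2 (Psi hp X), ∃ g, Ac π g m := fun m hm => h.exists_ac P h4 h6 (fun a ha => ha.1) ho hm
  have hJ : ⁅R.map E.ι, R.map E.ι⁆ = R.map E.ι := by rw [← Subgroup.map_commutator, hR]
  have h3 : ∀ r ∈ R.map E.ι, ∃ g, Ac π g r := fun r hr' => hac r (by
    rw [← hX.psiS hζ]
    refine chi_perf hp hr (fun t ht => ?_) hJ ?_ hr'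
    · rw [Set.mem_singleton_iff.1 ht]
      exact ⟨hX.1, 1, by rw [pow_one, hX.pow_eq_one hζ]⟩
    · rintro _ ⟨y, hy, rfl⟩
      rw [mem_centralizer_singleton_iff, ← map_mul, ← map_mul, hxR y hy])
  obtain ⟨m, hm, w, k, hk, hks, e⟩ := form_one (hp := hp) hX.1 (inv_mem hX.1) (n := E.ι n) (by
    rw [← map_inv, ← map_inv, ← map_mul, ← map_mul, hn])
  rw [(hX.inv hζ).psiS hζ, psi_neg] at hm
  obtain ⟨H, h5⟩ := h.act_pi P (MulAut.conj k).toMonoidHom (RingEquiv.refl _) (hw w (neg_of_conj hζ hX hk hks))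
    fun a ha => rp_xc hk ha
  obtain ⟨g, h7⟩ := hac m hm
  have h8 : ActT π (E.ι n) (toG g * H) := by
    rw [e]
    exact ActA.mulT (fun X => by rw [cjS_toG, h7 X]) (h5.resolve_left fun h => absurd h.1 (by decide)).2
  obtain ⟨H', h9⟩ := h.act_pi P E.F.toMonoidHom (iterateFrobeniusEquiv (kb 2) 2 E.e) hA E.pw
  have h10 := cen_abs P.ker E.ι hR h3 h8 (by
      rintro _ ⟨z, hz, rfl⟩
      rw [← map_mul, hnR z hz, map_mul, mul_inv_cancel_right]) (σ := E.F.toMonoidHom) (by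
      rintro _ ⟨z, hz, rfl⟩
      exact E.fix z) (fun x => (iterateFrobenius_def 2 E.e x).trans (by rw [he, pow_one]))
    (h9.resolve_right fun h => absurd h.1 (by decide)).2
  intro a ha y hy z hz
  obtain ⟨Z, rfl⟩ := h.mem_range P ha hy
  exact (mem_centralizer_iff.1 (h10 hz) _ ⟨Z, rfl⟩).symm

/-- a frame in which an element of prime order is toral -/
theorem exists_chi {D : ChevalleyDatum} {l : ℕ} {M : CoxeterMatrix (Fin l)} {hp : IsType D l M} {p : ℕ} [Fact p.Prime]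
    {d : ℕ} {g0 : Lat l ≃+ Lat l} {L : Type} [Group L] (E0 : Frame hp p d g0 L) {r : ℕ} [NeZero r] (hr : r.Prime)
    (hrp : r ≠ p) {x : L} (hx : orderOf x = r) : ∃ (E : Frame hp p d g0 L) (ζ : kb p) (X : Lat l →+ ZMod r),
      E.e = E0.e ∧ IsPrimitiveRoot ζ r ∧ Chi hp ζ (E.ι x) X ∧ X ≠ 0 := by
  have h1 : x ^ r = 1 := by rw [← hx, pow_orderOf_eq_one]
  obtain ⟨g, hg⟩ := DS.Nt.exists_conj_T hp (x := E0.ι x) (n := 1) hr hrp (by rw [pow_one, ← map_pow, h1, map_one])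
  obtain ⟨E, hE, h0⟩ := E0.exists_cj (Q := {x}) (Set.finite_singleton _) (g := g) (by rintro _ rfl; exact hg)
  obtain ⟨ζ, hζ⟩ := exists_zeta p (m := r) ((Nat.coprime_primes hr Fact.out).2 hrp)
  obtain ⟨X, hX⟩ := chi_ex hp hζ hr.pos (t := E.ι x) (by rw [h0 _ rfl]; exact hg) (by rw [← map_pow, h1, map_one])
  refine ⟨E, ζ, X, hE.1, hζ, hX, hX.ne_zero hζ boxChi fun e => ?_⟩
  rw [E.inj (e.trans (map_one _).symm), orderOf_one] at hx
  exact hr.one_lt.ne hx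

/-- **`BoxS7b`** -/
theorem boxS7b : BoxS7b := by
  intro big lat L _ _ E0 he0 U _ _ τ α β R R' co u v hu hv
  have hr : Nat.Prime 7 := by norm_num
  have hu7 : u ^ 7 = 1 := by rw [← hu, pow_orderOf_eq_one]
  obtain ⟨E, ζ, X, he, hζ, hX, hX0⟩ := exists_chi E0 hr (by norm_num) ((orderOf_injective τ co.pair.inj u).trans hu)
  rw [he0] at he
  obtain ⟨w0, hw0⟩ := E.gr
  have hg : ∀ a, E.g a = wa tE8 w0 a := fun a => by rw [hw0, sg_apply, Units.val_one, one_smul]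
  have h1 : Eg w0 X 2 := fun a => by
    rw [← hg, hX.frob hζ boxChi E (E.fix _), Frame.q, he, pow_one, Nat.cast_ofNat]
  have h2 := P.k1 E big co hr (by norm_num) (Q := {u}) (by rintro _ rfl; exact ⟨hu7, hX.1⟩)
  rw [Set.image_singleton, hX.psiS hζ] at h2
  obtain ⟨c, c', T⟩ := lat.l2 X (lat.nf 7 hr le_rfl X w0 hX0 h2 h1).2
  have hA : ActA2 tE8 E.g 1 c c' := by
    obtain ⟨w, hw, e⟩ := T.pos w0 2 h1 (by decide)
    exact ⟨w, hw, fun a ha => (hg a).trans (e a ha)⟩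
  have h := T.p2
  obtain ⟨h4, h6, -⟩ := DS.Ex.TorCE.typE_facts tE8 (Or.inr (Or.inr rfl))
  have h3 := cen_of (fun e => absurd (congrArg ChevalleyDatum.rank e) (by decide)) h4 h6 E he hr hζ hX (n := τ v)
    (by rw [← map_inv, ← map_inv, ← map_mul, ← map_mul, hv]) co.pair.perfect (co.pair.comm u) (co.pair.comm v) h T.orth
    (fun w hw => T.neg w fun a => by rw [hw a, neg_one_mul]) hA
  obtain ⟨w, hw, e⟩ := hA
  refine P.a2 E big (by norm_num) co h (fun a ha => ?_) (Or.inr ⟨w, hw, fun a ha => ?_⟩) h3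
  · rw [e a ha, Units.val_one, one_smul]
    exact (P.WW_stab (P.a2_rt h) (P.a2_refl h) hw a).2 ha
  · rw [e a ha, Units.val_one, one_smul]

end Cfsg.Agent.Cam.Q2.S7b
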