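import Cfsg.Agent.Cam.Q2.N33
import Cfsg.Agent.Cam.E8K.C
import Cfsg.Agent.E82.U4.Grp
import Cfsg.Agent.E82.Small
import Cfsg.Agent.SporadicStructure.PsuMatch

/-!
# `E₈(2)`: the groups `A₅` and `U₄(2)` (helper69)
-/

set_option autoImplicit false
set_option linter.unusedVariables false
set_option maxRecDepth 100000

namespace Cfsg.Agent.Cam.Q2.Sm

open Cfsg Cfsg.Lie Subgroup
open Cfsg.Agent.Cam.Spor Cfsg.Agent.Cam.Q2.N33
open Cfsg.Agent.H939.L64 (E2)
open Cfsg.Agent.E82 (cf qe par fd_one fd_conj fd_inv fd9)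
open Cfsg.Agent.E82.F5 (A5 x5 x5_pow)
open Cfsg.Agent.Lib.VonDyck (a5 b5 b5_pow b5_ne)
open Cfsg.Agent.Lib.FieldFour (F4)

variable {U : Type} [Group U]

/-- the data of a core -/
theorem c2_of [Finite U] (inn : BoxInn) {τ α β : U →* E2} {R R' : Subgroup E2} (c : Core τ α β R R')
    (five : ∀ u, orderOf u = 5 → cf (τ u) = 48) : C2 α β := by
  obtain ⟨θ, ψ, h⟩ := E8K.exists_cmp' (F := ZMod 2) c
  obtain ⟨g, hg⟩ := inn θ
  have h1 : ∀ u, cf (α u) = cf (τ (ψ u)) := fun u => by rw [← h u, hg, fd_conj]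
  exact ⟨c.pair'.inj, c.binj, c.ab, ⟨ψ, fun u => by rw [h1, c.eq]⟩, fun u hu => by
    rw [h1]
    exact five _ (by rw [MulEquiv.orderOf_eq, hu])⟩

theorem C2.congr {V : Type} [Group V] {α β : U →* E2} (h : C2 α β) (e : V ≃* U) :
    C2 (α.comp e.toMonoidHom) (β.comp e.toMonoidHom) where
  ainj := h.ainj.comp e.injective
  binj := h.binj.comp e.injective
  ab u v := h.ab _ _
  cmp := by
    obtain ⟨ψ, hψ⟩ := h.cmp
    refine ⟨(e.trans ψ).trans e.symm, fun u => ?_⟩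
    show cf (α (e u)) = cf (α (e (e.symm (ψ (e u)))) * β (e (e.symm (ψ (e u)))))
    rw [e.apply_symm_apply]
    exact hψ _
  five u hu := h.five _ (by
    show orderOf (e u) = 5
    rw [MulEquiv.orderOf_eq, hu])

theorem pw {G : Type} [Group G] (f : U →* G) {u : U} {n : ℕ} (h : u ^ n = 1) : f u ^ n = 1 := by
  rw [← map_pow, h, map_one]

theorem three5 {g : A5} (h : orderOf g = 3) : (g : Equiv.Perm (Fin 5)).IsThreeCycle := by
  have h1 : orderOf (g : Equiv.Perm (Fin 5)) = 3 := by rw [Subgroup.orderOf_coe, h]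
  have h2 := Equiv.Perm.isCycle_of_prime_order' (σ := (g : Equiv.Perm (Fin 5))) (by rw [h1]; exact Nat.prime_three)
    (by rw [h1]; simp)
  rw [← card_support_eq_three_iff, ← h2.orderOf, h1]

theorem conj5 {g g' : A5} (h : orderOf g = 3) (h' : orderOf g' = 3) : ∃ k, k * g * k⁻¹ = g' :=
  isConj_iff.1 (alternatingGroup.isThreeCycle_isConj (by simp) (three5 h) (three5 h'))

theorem ord_b5 : orderOf b5 = 3 := orderOf_eq_prime b5_pow b5_ne

theorem ord_x5 : orderOf x5 = 5 :=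
  haveI : Fact (Nat.Prime 5) := ⟨Nat.prime_five⟩
  orderOf_eq_prime x5_pow (by decide)

/-- **`A₅`** -/
theorem noA5' {α β : A5 →* E2} (h : C2 α β) : False := by
  obtain ⟨ψ, hψ⟩ := h.cmp
  obtain ⟨n, hn⟩ := conj5 ord_b5 (g' := b5⁻¹) (by rw [orderOf_inv, ord_b5])
  obtain ⟨k, hk⟩ := conj5 ord_b5 (g' := ψ.symm b5) (by rw [MulEquiv.orderOf_eq, ord_b5])
  have h1 := idx (n := β n) (pw α b5_pow) (pw β b5_pow) (h.ab _ _) (h.ab _ _).symm
    (by rw [← map_inv, ← map_mul, ← map_mul, hn, map_inv])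
  have h2 := hψ (ψ.symm b5)
  rw [MulEquiv.apply_symm_apply, ← hk, map_mul, map_mul, map_inv, fd_conj] at h2
  rw [← h2] at h1
  exact q_ne (pw β b5_pow) (pw α x5_pow) (h.ab _ _).symm (fun e => b5_ne (h.binj (e.trans (map_one β).symm)))
    (h.five _ ord_x5) (left_eq_add.1 h1)

theorem noA5 {α β : U →* E2} (h : C2 α β) (e : Nonempty (U ≃* ↥(alternatingGroup (Fin 5)))) : False :=
  noA5' (C2.congr h e.some.symm)

theorem no_nine {α β : U →* E2} (h : C2 α β) {u g : U} (hu : orderOf u = 5) (h9 : g ^ 9 = 1) : g ^ 3 = 1 := by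
  by_contra h3
  have h1 : β g ^ 3 ≠ 1 := fun e => h3 (h.binj (by rw [map_pow, e, map_one]))
  have h2 := (fd9 (pw β h9) h1).1
  have h4 := cf_cases (y := β g ^ 3) (x := α u) (by rw [← pow_mul]; exact pw β h9)
    (pw α (by rw [← hu, pow_orderOf_eq_one])) (by rw [← map_pow]; exact (h.ab _ _).symm) h1 (h.five u hu)
  omega

open Cfsg.Agent.E82.U4 in
theorem nine : ∃ g : PSU 4 F4 2, g ^ 9 = 1 ∧ g ^ 3 ≠ 1 := by
  have h1 : W [0, 3, 4] ^ 3 = W ([0, 3, 4] ++ [0, 3, 4] ++ [0, 3, 4]) := by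
    rw [W_append, W_append, pow_succ, pow_two]
  have h2 : W [0, 3, 4] ^ 9 = 1 := by
    rw [show 9 = 3 * 3 from rfl, pow_mul, h1]
    exact W_cube (by decide +kernel)
  refine ⟨QuotientGroup.mk' _ (W [0, 3, 4]), by rw [← map_pow, h2, map_one], fun e => ?_⟩
  rw [← map_pow, h1] at e
  exact W_ne (by decide +kernel) (mk_inj (e.trans (map_one _).symm))

/-- **`U₄(2)`** -/
theorem noU42 [Finite U] {α β : U →* E2} (h : C2 α β) {F : Type} [Field F] [Fintype F] (hF : Fintype.card F = 4)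
    (e : U ≃* PSU 4 F 2) : False := by
  have : Fact (Nat.Prime 5) := ⟨Nat.prime_five⟩
  obtain ⟨f⟩ := SporadicStructure.PsuMatch.psu_iso_of_card (F := F) (K := F4) hF 4 2
  obtain ⟨u, hu⟩ := exists_prime_orderOf_dvd_card' (G := U) 5 (by
    rw [Nat.card_congr e.toEquiv, E82.card_U42 hF]
    norm_num)
  obtain ⟨g, h1, h2⟩ := nine
  refine h2 ((e.trans f).symm.injective ?_)
  rw [map_pow, map_one]
  exact no_nine h hu (by rw [← map_pow, h1, map_one])

end Cfsg.Agent.Cam.Q2.Sm
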